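import Cfsg.Agent.Omega.OM.LowV.SetU
import Cfsg.Agent.Omega.OM.Lev.Low.LowMain

/-!
# `QV` over the frame `LnV`
-/

set_option autoImplicit false
set_option linter.unusedSectionVars false

namespace Cfsg.Agent.Omega.OM.LowV

open Subgroup Cfsg Cfsg.Agent.ZN.ChoiceBase Cfsg.Agent.ZN.ChoiceSit
open Cfsg.Agent.ZN (jj zj bau zc zl o2)
open Cfsg.Agent.Omega.OM.SwapL (ZL)
open Cfsg.Agent.Omega.OM.SwapV.Lv (LnV)
open Cfsg.Agent.Omega.OM.Lev.Low
open Cfsg.Agent.Omega.NO3S.Level (lev lev_mono lev_isLev Lev lev_le)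

universe u

variable {G : Type u} [Group G] [Finite G] {ι : Type} [Finite ι] {S : Sylow 2 G} {V Q : Subgroup G} {n : ℕ}
  {L W Z C A : ι → Subgroup G}

/-- **`QV`** -/
theorem qv (h : LnV S V Q n L W Z C A) {T : Subgroup G} (hT : IsPGroup 2 T)
    (hB : SwapL.BL (S : Subgroup G) n ≤ T) {j : ℕ} (hj : j ≤ n) :
    YB.QV T (zc (lev (S : Subgroup G) j)) Q V where
  QT := h.fr.QB.trans hB
  TQ := by
    intro t ht
    have h1 := (SwapL.lb S n).two_le hT hB ht
    have h2 := SwapV.Lv.two_norm h hT hB ht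
    have e : Q = SwapL.BL (S : Subgroup G) n ⊓ centralizer (V : Set G) := by
      ext x
      rw [mem_inf, mem_centralizer_iff]
      constructor
      · intro hx
        exact ⟨h.fr.QB hx, fun v hv => ((h.fr.mem_Q x (h.fr.QB hx)).1 hx v hv).symm⟩
      · rintro ⟨hx, hx'⟩
        exact (h.fr.mem_Q x hx).2 fun v hv => (hx' v hv).symm
    rw [mem_normalizer_iff_cj, e, cj_inf, cj_centralizer, cj_eq_of_mem_normalizer h1, cj_eq_of_mem_normalizer h2]
  mem := by
    intro x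
    have hVX : V ≤ zc (lev (S : Subgroup G) j) :=
      h.fr.VX.trans ((lev_isLev (S : Subgroup G) j).zc_le_zc (lev_mono _ hj) (lev_le _ n))
    constructor
    · exact fun hx => ⟨hVX hx, fun q hq => (h.fr.mem_Q q (h.fr.QB hq)).1 hq x hx⟩
    · rintro ⟨hx, hxQ⟩
      have h3 : x ∈ Q := ((lev_mono _ hj).trans h.levQ) (mem_zc.1 hx).1
      exact h.fr.zcQ x h3 (mem_zc.1 hx).2.1 fun y hy => (hxQ y hy).symm
  two := hT

end Cfsg.Agent.Omega.OM.LowV
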