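import Cfsg.Agent.Omega.OM.Lev.Low.LinV
import Cfsg.Agent.Omega.OM.LowV.Qv

/-!
# TORUS, `q = 2` (helper109 #23071), (B), over the frame `LnV`: `|c l| = 4`, `Q` fixes all `l`, `c l ≤ V`

* `exists_level` : the first level with a best offender which does not centralise all `c l`;
* `lin_V` : **(B)**.
-/

set_option autoImplicit false
set_option linter.unusedSectionVars false

namespace Cfsg.Agent.Omega.OM.LowV

open Subgroup Cfsg Cfsg.Agent.ZN.ChoiceBase Cfsg.Agent.ZN.ChoiceSit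
open Cfsg.Agent.ZN (jj zj bau zc zl o2)
open Cfsg.Agent.Omega.NO3S.OneLine (BFam bo bo_fam)
open Cfsg.Agent.Omega.FFThm (ElemM)
open Cfsg.Agent.Omega.NO1.BestOff (Best)
open Cfsg.Agent.Omega.OM.SwapL (ZL)
open Cfsg.Agent.Omega.OM.SwapV.Lv (LnV)
open Cfsg.Agent.Omega.OM.Lev.Low
open Cfsg.Agent.Omega.NO3S.Level (lev lev_mono lev_isLev Lev BO nxt lev_le_succ lev_le normalizer_le_zc)

universe u

variable {G : Type u} [Group G] {Λ : Type*}

/-! ### The levels -/

section line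

variable [Finite G] {ι : Type} [Finite ι] [Finite Λ] {S : Sylow 2 G} {V Q : Subgroup G} {n : ℕ}
  {L W Z C A : ι → Subgroup G} {T : Subgroup G} {N c : Λ → Subgroup G}

/-- **the first level with a best offender which does not centralise all `c l`** -/
theorem exists_level (h : LnV S V Q n L W Z C A) (hT : IsPGroup 2 T) (hB : SwapL.BL (S : Subgroup G) n ≤ T) {j : ℕ}
    (hj : j ≤ n) (hy : YB T (zc (lev (S : Subgroup G) j)) N c) (hZ : ∃ l, ¬ zc T ≤ N l) :
    ∃ m, j ≤ m ∧ m ≤ n ∧ (∀ l, c l ≤ zc (lev (S : Subgroup G) m)) ∧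
      ∃ D ∈ BO (S : Subgroup G) (lev (S : Subgroup G) m), ∃ l, ¬ Cen D (c l) := by
  classical
  have hne : ∃ m, j ≤ m ∧ m ≤ n ∧ ∃ D ∈ BO (S : Subgroup G) (lev (S : Subgroup G) m), ∃ l, ¬ Cen D (c l) := by
    by_contra hcon
    push Not at hcon
    obtain ⟨l, hl⟩ := hZ
    refine hl ((zc_T_le S hT hB).trans (zj_le h.fr fun i z hz => ?_))
    -- an element of `A i` which moves `W i`
    have hane := h.fr.Ane i
    push Not at hane
    obtain ⟨b, hb, v, hv, hbv⟩ := hane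
    have r := rt h.fr hB hb fun h1 => hbv (h1 v hv)
    obtain ⟨w, hw, rfl⟩ := r.all z hz
    have hAi : A i ∈ BO (S : Subgroup G) (lev (S : Subgroup G) n) :=
      ⟨(h.fr.AB i).trans (SwapL.lb S n).BS, ⟨h.fr.AX i, fun E h1 h2 => h.fr.best i E h2 h1⟩⟩
    have hcen := hcon n hj le_rfl (A i) hAi l
    have hbT : b ∈ T := hB (h.fr.AB i hb)
    have hbl : Mv N c b l l := hy.mv_of_cen hbT (hcen b hb)
    have hwX : w ∈ zc (lev (S : Subgroup G) j) := (qv h hT hB hj).VX hw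
    obtain ⟨y, hy', hyw⟩ := hy.fix l w hwX
    have e0 : w = y * (y * w) := by rw [← mul_assoc, hy.mul_self (hy.cX l hy'), one_mul]
    have hy1 : b * y * b⁻¹ = y := by rw [hcen b hb y hy']; group
    have hn' : b * (y * w) * b⁻¹ ∈ N l := hbl.cen.2 hyw
    have h5 := hy.cm (mul_mem (hy.cX l hy') hwX) (hy.cX l hy')
    have e1 : w * (b * w * b⁻¹) = (y * w) * (b * (y * w) * b⁻¹) := by
      calc w * (b * w * b⁻¹) = y * (y * w) * (b * (y * (y * w)) * b⁻¹) := by rw [← e0]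
        _ = y * (y * w) * ((b * y * b⁻¹) * (b * (y * w) * b⁻¹)) := by group
        _ = y * ((y * w) * y) * (b * (y * w) * b⁻¹) := by rw [hy1]; group
        _ = (y * y) * (y * w) * (b * (y * w) * b⁻¹) := by rw [h5]; group
        _ = _ := by rw [hy.mul_self (hy.cX l hy'), one_mul]
    rw [e1]
    exact mul_mem hyw hn'
  have hspec := Nat.find_spec hne
  have hmin : ∀ m', j ≤ m' → m' < Nat.find hne → ∀ D ∈ BO (S : Subgroup G) (lev (S : Subgroup G) m'), ∀ l,
      Cen D (c l) := by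
    intro m' h1 h2 D hD l
    by_contra hcon
    exact Nat.find_min hne h2 ⟨h1, (h2.le.trans hspec.2.1), D, hD, l, hcon⟩
  refine ⟨Nat.find hne, hspec.1, hspec.2.1, ?_, hspec.2.2⟩
  have key : ∀ m', j ≤ m' → m' ≤ Nat.find hne → ∀ l, c l ≤ zc (lev (S : Subgroup G) m') := by
    intro m' h1
    induction m', h1 using Nat.le_induction with
    | base => exact fun _ l => hy.cX l
    | succ m' h1 ih =>
      intro h2 l x hx
      have h3 := ih (by omega) l hx
      have hx' := mem_zc.1 h3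
      refine (lev_isLev (S : Subgroup G) (m' + 1)).mem_of_comm (lev_le _ _ hx'.1) hx'.2.1 ?_
      have h4 : lev (S : Subgroup G) (m' + 1) ≤ centralizer ({x} : Set G) := by
        show nxt (S : Subgroup G) (lev (S : Subgroup G) m') ≤ _
        refine sup_le (fun s hs => ?_) (sSup_le fun D hD d hd => ?_)
        · rw [mem_centralizer_singleton_iff]
          exact (mem_centralizer_iff.1 hs.2 x h3).symm
        · rw [mem_centralizer_singleton_iff]
          exact hmin m' h1 (by omega) D hD l d hd x hx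
      exact fun y hy => mem_centralizer_singleton_iff.1 (h4 hy)
  exact key _ hspec.1 le_rfl

/-- **(B)** -/
theorem lin_V (h : LnV S V Q n L W Z C A) (hT : IsPGroup 2 T) (hB : SwapL.BL (S : Subgroup G) n ≤ T) {j : ℕ}
    (hj : j ≤ n) (hy : YB T (zc (lev (S : Subgroup G) j)) N c) (htr : ∀ l m, ∃ t ∈ T, Mv N c t l m)
    (hs : YB.Sub T N c) (hZ : ∃ l, ¬ zc T ≤ N l) (hw : ∀ l, YB.Wide (V) N c l) (l : Λ) :
    (∀ q ∈ Q, Mv N c q l l) ∧ Nat.card (c l) = 4 ∧ c l ≤ V := by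
  obtain ⟨m, hjm, hmn, hcm, D, hD, l₀, hl₀⟩ := exists_level h hT hB hj hy hZ
  have hle : zc (lev (S : Subgroup G) m) ≤ zc (lev (S : Subgroup G) j) :=
    (lev_isLev (S : Subgroup G) j).zc_le_zc (lev_mono _ hjm) (lev_le _ m)
  have hym : YB T (zc (lev (S : Subgroup G) m)) N c := hy.mono_X hle (two_norm_zc hT hB (by omega)) hcm
  have hqm := qv h hT hB hmn
  have hDT : D ≤ T := (BO_le_B hmn hD).trans hB
  obtain ⟨h1, h2, h3⟩ := hym.lin hs (bo_fam T (zc (lev (S : Subgroup G) m))) hqm (hw l₀) ⟨D, BO_bo hD hDT, hl₀⟩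
  obtain ⟨t, ht, htm⟩ := htr l₀ l
  refine ⟨fun q hq => ?_, ?_, ?_⟩
  · have h4 : t⁻¹ * q * t ∈ Q := by
      have := (mem_normalizer_iff.1 (inv_mem (hqm.TQ ht)) q).1 hq
      rwa [inv_inv] at this
    have h5 := (htm.mul (h1 _ h4)).mul htm.inv
    have e : t * (t⁻¹ * q * t) * t⁻¹ = q := by group
    rwa [e] at h5
  · rw [← htm.2, card_cj, h2]
  · rw [← htm.2]
    rintro _ ⟨x, hx, rfl⟩
    exact YB.QV.memV hym hqm ht (h3 hx)

end line

end Cfsg.Agent.Omega.OM.LowV
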