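import Cfsg.Agent.Omega.OM.Lev.Low.OneOf
import Cfsg.Agent.Omega.OM.SwapV.Lv.Pair

/-!
# TORUS, `q = 2`: (L) and (W) over the frame `LnV`

* `full_one` : (W) for one conjugation with `L l`;
* `lineZ` : `c = W l` and `Z m ≤ N`, `m ≠ l`, over `FrL` (no `Tr`);
* `full_norm`, `cent`, `full_of_conj` : **(W)** over `LnV`;
* `lineZ_yb`, `line_yb` : (L) for a fixed line.
-/

set_option autoImplicit false
set_option linter.unusedSectionVars false
set_option linter.unusedVariables false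

namespace Cfsg.Agent.Omega.OM.LowV

open Subgroup Cfsg Cfsg.Agent.ZN.ChoiceBase Cfsg.Agent.ZN.ChoiceSit
open Cfsg.Agent.ZN (jj zj bau zc zl o2)
open Cfsg.Agent.Omega.OM.Lev.Uni (FrL)
open Cfsg.Agent.Omega.OM.SwapL (ZL BL)
open Cfsg.Agent.Omega.OM.SwapV.Lv (LnV)
open Cfsg.Agent.Omega.OM.Lev.Low
open Cfsg.Agent.Omega.OM.Lev.Low.Line
open Cfsg.Agent.Omega.NO3S.Level (lev)

universe u

section base

variable {G : Type u} [Group G] {ι : Type} {B Q V X ZJ : Subgroup G} {L W Z C A : ι → Subgroup G}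
  (h : FrL B Q V X ZJ L W Z C A 2)
include h

/-- (W) for an element `w d`, `w ∈ W l`, `d ∈ Z_J ∩ C l` -/
theorem full_one [Finite G] (hW : ∀ z ∈ ZJ, ∀ g : G, g * z * g⁻¹ ∈ ZJ → Full C z → Full C (g * z * g⁻¹)) {z0 g w d : G} {l : ι}
    (hz0 : z0 ∈ ZJ) (hf : Full C z0) (hw : w ∈ W l) (hd : d ∈ ZJ) (hdC : d ∈ C l) (e : g * z0 * g⁻¹ = w * d) :
    Full C (g * z0 * g⁻¹) := by
  by_cases hw1 : w = 1
  · refine hW z0 hz0 g ?_ hf
    rw [e, hw1, one_mul]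
    exact hd
  · have hnb := SwapL.nb h l
    obtain ⟨x, hx, s, hs, e1⟩ := UniPlus.cover_two hnb hw
    have e2 : x * s * x⁻¹ = w := e1
    have hs1 : s ≠ 1 := by
      rintro rfl
      apply hw1
      rw [← e2]
      simp
    have hxd : x * d = d * x := h.LC l x hx d hd hdC
    have e3 : (x⁻¹ * g) * z0 * (x⁻¹ * g)⁻¹ = s * d := by
      calc (x⁻¹ * g) * z0 * (x⁻¹ * g)⁻¹ = x⁻¹ * (g * z0 * g⁻¹) * x := by group
        _ = x⁻¹ * (x * s * x⁻¹ * d) * x := by rw [e, e2]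
        _ = s * x⁻¹ * (d * x) := by group
        _ = s * d := by rw [← hxd]; group
    have hf1 := hW z0 hz0 (x⁻¹ * g) (by rw [e3]; exact mul_mem (h.Z_le l hs) hd) hf
    rw [e3] at hf1
    intro i hi
    rw [e] at hi
    by_cases hil : i = l
    · subst hil
      exact hw1 (one_of h hw ((mul_mem_cancel_right hdC).1 hi))
    · rw [mul_mem_C h hil hw] at hi
      exact hf1 i (by rw [mul_mem_C h hil (ZW h l hs)]; exact hi)

/-- **(L)** without `Tr` -/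
theorem lineZ [Finite G] [Finite ι]
    (hW : ∀ z ∈ ZJ, ∀ g : G, g * z * g⁻¹ ∈ ZJ → Full C z → Full C (g * z * g⁻¹))
    {c N : Subgroup G} (hcV : c ≤ V) (hc4 : Nat.card c = 4) (hfix : ∀ x ∈ X, ∃ a ∈ c, a * x ∈ N)
    (htriv : c ⊓ N = ⊥) (hBc : ∀ b ∈ B, ∀ x ∈ c, b * x * b⁻¹ ∈ c) (hBN : ∀ b ∈ B, ∀ x ∈ N, b * x * b⁻¹ ∈ N)
    (hZJ : ¬ ZJ ≤ N) {τ : G} (hτc : ∀ x ∈ c, τ * x * τ⁻¹ ∈ c) (hτ1 : ∀ x ∈ c, τ * x * τ⁻¹ = x → x = 1)
    (hτN : ∀ x ∈ N, τ * x * τ⁻¹ = x) :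
    ∃ l, c = W l ∧ ∀ m, m ≠ l → Z m ≤ N := by
  classical
  -- a root element which centralises `c` has its `Z i` in `N`
  have key1 : ∀ i, (∀ t ∈ A i, ∀ x ∈ c, t * x = x * t) → Z i ≤ N := by
    intro i hi z hz
    have hne := h.Ane i
    push Not at hne
    obtain ⟨t, ht, w0, hw0, hne⟩ := hne
    obtain ⟨w, hw, e⟩ := exists_comm h (h.AB i ht) (fun hh => hne (hh w0 hw0)) hz
    have hwV : w ∈ V := h.WV i hw
    obtain ⟨a, ha, haN⟩ := hfix w (h.VX hwV)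
    have haV := hcV ha
    have h1 := hBN t (h.AB i ht) _ haN
    have h2 := mul_mem haN h1
    have hta : t * a * t⁻¹ = a := mul_inv_eq_iff_eq_mul.2 (hi t ht a ha)
    have htw : t * w * t⁻¹ ∈ V := h.LV i t ((h.blk i).BL (h.AB i ht)) w hwV
    have e1 : a * w * (t * (a * w) * t⁻¹) = w * (t * w * t⁻¹) := by
      have e2 : t * (a * w) * t⁻¹ = a * (t * w * t⁻¹) := by
        calc t * (a * w) * t⁻¹ = (t * a * t⁻¹) * (t * w * t⁻¹) := by group
          _ = _ := by rw [hta]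
      rw [e2]
      calc a * w * (a * (t * w * t⁻¹)) = a * (w * a) * (t * w * t⁻¹) := by group
        _ = (a * a) * w * (t * w * t⁻¹) := by rw [mc h hwV haV]; group
        _ = _ := by rw [mi h haV, one_mul]
    rwa [e1, e] at h2
  -- (1)
  obtain ⟨l, t, ht, x0, hx0, hne⟩ : ∃ l, ∃ t ∈ A l, ∃ x ∈ c, t * x ≠ x * t := by
    by_contra hcon
    push Not at hcon
    exact hZJ (zj_le h fun i => key1 i fun t ht x hx => hcon i t ht x hx)
  -- (2)
  have hxV := hcV hx0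
  have h1 : t * x0 * t⁻¹ * x0⁻¹ ∈ Z l := h.A_comm ht hxV
  have h2 : t * x0 * t⁻¹ * x0⁻¹ ∈ c := mul_mem (hBc t (h.AB l ht) x0 hx0) (inv_mem hx0)
  have h3 : t * x0 * t⁻¹ * x0⁻¹ ≠ 1 := fun e => hne (mul_inv_eq_iff_eq_mul.1 (mul_inv_eq_one.1 e))
  have hZc : Z l ≤ c := by
    intro z hz
    by_cases hz1 : z = 1
    · rw [hz1]; exact one_mem _
    · rw [Z_two h hz hz1 h1 h3]; exact h2
  obtain ⟨zl, hzl, hzl1⟩ := exists_z h l
  -- (3)
  have hidx : ((Z l).subgroupOf c).index = 2 := by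
    have e1 := Subgroup.card_mul_index ((Z l).subgroupOf c)
    have e2 : Nat.card ((Z l).subgroupOf c) = 2 := by
      rw [Nat.card_congr (subgroupOfEquivOfLe hZc).toEquiv, h.cardZ l]
    rw [e2, hc4] at e1
    omega
  have h4 : ∀ b ∈ B, ∀ x ∈ c, b * x * b⁻¹ * x⁻¹ ∈ Z l := by
    intro b hb x hx
    have hbx := hBc b hb x hx
    by_cases hxZ : x ∈ Z l
    · rw [(h.blk l).cZ b hb x hxZ]
      simp [one_mem]
    · have hbxZ : b * x * b⁻¹ ∉ Z l := by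
        intro h5
        apply hxZ
        have h6 := (h.blk l).cZ b hb _ h5
        have e : x = b * x * b⁻¹ := by
          have h7 : b * x = b * (b * x * b⁻¹) := by rw [h6]; group
          exact mul_left_cancel h7
        rw [e]; exact h5
      have h5 := Subgroup.mul_mem_iff_of_index_two hidx (a := ⟨b * x * b⁻¹, hbx⟩) (b := ⟨x, hx⟩⁻¹)
      have h6 : ((⟨b * x * b⁻¹, hbx⟩ * ⟨x, hx⟩⁻¹ : c) : G) = b * x * b⁻¹ * x⁻¹ := rfl
      rw [mem_subgroupOf, mem_subgroupOf, mem_subgroupOf, h6] at h5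
      refine h5.2 (iff_of_false hbxZ ?_)
      intro h7
      exact hxZ (by simpa using h7)
  -- (4)
  have h5 : ∀ x ∈ c, ∃ w ∈ W l, ∃ b ∈ C l, b ∈ ZJ ∧ x = w * b := by
    intro x hx
    obtain ⟨w, hw, b', hb', rfl⟩ := h.WC l x (hcV hx)
    refine ⟨w, hw, b', hb', (h.mem_ZJ b').2 ⟨h.CV l hb', fun b hb => ?_⟩, rfl⟩
    have h6 := h4 b hb _ hx
    have h7 := (h.blk l).BV hb hw
    have h8 := h.BC l b hb b' hb'
    have e : b * (w * b') * b⁻¹ * (w * b')⁻¹ = (b * w * b⁻¹ * w⁻¹) * (b * b' * b⁻¹ * b'⁻¹) := by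
      have c1 := mc h (h.WV l hw) (h.CV l (mul_mem h8 (inv_mem hb')))
      calc b * (w * b') * b⁻¹ * (w * b')⁻¹ = (b * w * b⁻¹) * ((b * b' * b⁻¹ * b'⁻¹) * w⁻¹) := by group
        _ = (b * w * b⁻¹) * (w⁻¹ * (b * b' * b⁻¹ * b'⁻¹)) := by
          rw [mc h (h.CV l (mul_mem h8 (inv_mem hb'))) (inv_mem (h.WV l hw))]
        _ = _ := by group
    rw [e] at h6
    have h9 : b * b' * b⁻¹ * b'⁻¹ ∈ W l :=
      (mul_mem_cancel_left (mul_mem h7 (inv_mem hw))).1 (ZW h l h6)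
    have h10 := one_of h h9 (mul_mem h8 (inv_mem hb'))
    exact mul_inv_eq_iff_eq_mul.1 (mul_inv_eq_one.1 h10)
  -- (5)
  have h6 : ∀ m, m ≠ l → Z m ≤ N := by
    intro m hm
    refine key1 m fun s hs x hx => ?_
    obtain ⟨w, hw, b, hb, hbZ, rfl⟩ := h5 x hx
    have c1 : Commute s w := h.AC m s hs w (h.WjC m l hm hw)
    have c2 : Commute s b := ((h.mem_ZJ b).1 hbZ).2 s (h.AB m hs)
    exact (c1.mul_right c2).eq
  -- (6)
  obtain ⟨z0, hz0, hz0f⟩ := exists_full h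
  obtain ⟨y, hy, c0, hc0, hc0Z, ez0⟩ := h.split_ZJ l hz0
  have hy1 : y ≠ 1 := by
    rintro rfl
    apply hz0f l
    rw [ez0, one_mul]
    exact hc0
  have hc0N : c0 ∈ N := ZJ_C_le h h6 hc0Z hc0
  have hc0f : ∀ i, i ≠ l → c0 ∉ C i := fun i hi h7 => hz0f i (by
    rw [ez0, mul_mem_C h hi (ZW h l hy)]; exact h7)
  have hyc : y ∈ c := hZc hy
  have hx := hτc y hyc
  obtain ⟨w, hw, b', hb', hb'Z, ex⟩ := h5 _ hx
  have hτz : τ * z0 * τ⁻¹ = w * (b' * c0) := by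
    rw [ez0]
    calc τ * (y * c0) * τ⁻¹ = (τ * y * τ⁻¹) * (τ * c0 * τ⁻¹) := by group
      _ = w * b' * c0 := by rw [ex, hτN c0 hc0N]
      _ = _ := by group
  have hf1 := full_one h hW hz0 hz0f hw (mul_mem hb'Z hc0Z) (mul_mem hb' hc0) hτz
  have hb'1 : b' = 1 := by
    refine h.C0 b' (h.CV l hb') fun i => ?_
    by_cases hi : i = l
    · rw [hi]; exact hb'
    · by_contra hbi
      have h7 : b' * c0 ∉ C i := fun h8 => hf1 i (by
        rw [hτz, mul_mem_C h hi hw]; exact h8)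
      obtain ⟨a1, ha1, d1, hd1, e1⟩ := ZJ_cmp h hb'Z i
      obtain ⟨a2, ha2, d2, hd2, e2⟩ := ZJ_cmp h hc0Z i
      have ha1' : a1 ≠ 1 := by
        rintro rfl
        exact hbi (by rw [e1, one_mul]; exact hd1)
      have ha2' : a2 ≠ 1 := by
        rintro rfl
        exact hc0f i hi (by rw [e2, one_mul]; exact hd2)
      have e3 := Z_two h ha1 ha1' ha2 ha2'
      apply h7
      rw [e1, e2, ← e3]
      have e4 : a1 * d1 * (a1 * d2) = (a1 * a1) * (d1 * d2) := by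
        calc a1 * d1 * (a1 * d2) = a1 * (d1 * a1) * d2 := by group
          _ = a1 * (a1 * d1) * d2 := by rw [mc h (h.CV i hd1) (h.ZV i ha1)]
          _ = _ := by group
      rw [e4, mi h (h.ZV i ha1), one_mul]
      exact mul_mem hd1 hd2
  have hxW : τ * y * τ⁻¹ ∈ W l := by rw [ex, hb'1, mul_one]; exact hw
  have hx1 : τ * y * τ⁻¹ ≠ 1 := fun e => hy1 (conj_eq_one_iff.1 e)
  have hxy : τ * y * τ⁻¹ ≠ y := fun e => hy1 (hτ1 y hyc e)
  have hWl : Nat.card (W l) = 4 := by rw [(h.blk l).card, h.cardZ l]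
  have hcW : c = W l := by
    have h7 : Nat.card ↥(c ⊓ W l) ∣ 4 := by
      rw [← hc4]
      exact Subgroup.card_dvd_of_le inf_le_left
    have h8 : 2 < Nat.card ↥(c ⊓ W l) :=
      two_lt_card (one_mem _) (mem_inf.2 ⟨hyc, ZW h l hy⟩) (mem_inf.2 ⟨hx, hxW⟩) hy1.symm hx1.symm hxy.symm
    have h9 : Nat.card ↥(c ⊓ W l) = 4 := eq_four h7 h8
    have h10 : c ⊓ W l = c := Subgroup.eq_of_le_of_card_ge inf_le_left (by rw [h9, hc4])
    have h11 : c ⊓ W l = W l := Subgroup.eq_of_le_of_card_ge inf_le_right (by rw [h9, hWl])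
    rw [← h10, h11]
  exact ⟨l, hcW, h6⟩

end base

section W

variable {G : Type u} [Group G] [Finite G] {ι : Type} [Finite ι] {S : Sylow 2 G} {V Q : Subgroup G} {n : ℕ}
  {L W Z C A : ι → Subgroup G}

theorem full_norm (hL : LnV S V Q n L W Z C A) {y z : G} (hy : y ∈ normalizer (BL (S : Subgroup G) n : Set G))
    (hz : z ∈ ZL (S : Subgroup G) n) (hf : Full C z) : Full C (y * z * y⁻¹) := by
  intro j hj
  obtain ⟨i, -, -, h1⟩ := SwapV.Lv.perm hL (inv_mem hy) j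
  have h2 := (h1 _ (norm_ZL hy hz)).2 hj
  have e : y⁻¹ * (y * z * y⁻¹) * y⁻¹⁻¹ = z := by group
  rw [e] at h2
  exact hf i h2

/-- `N_G(B)` centralises the element of full support -/
theorem cent (hL : LnV S V Q n L W Z C A) {z : G} (hz : z ∈ ZL (S : Subgroup G) n) (hf : Full C z) {s : G}
    (hs : s ∈ normalizer (BL (S : Subgroup G) n : Set G)) : s * z = z * s := by
  have h2 := full_unique hL.fr (norm_ZL hs hz) hz (full_norm hL hs hz hf) hf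
  exact mul_inv_eq_iff_eq_mul.1 h2

omit [Finite ι] in
theorem S_norm_B : (S : Subgroup G) ≤ normalizer (BL (S : Subgroup G) n : Set G) :=
  (SwapL.lb S n).two_le S.isPGroup' (SwapL.lb S n).BS

/-- **(W)** -/
theorem full_of_conj (hL : LnV S V Q n L W Z C A) {z g : G}
    (hz : z ∈ ZL (S : Subgroup G) n) (hg : g * z * g⁻¹ ∈ ZL (S : Subgroup G) n) (hf : Full C z) :
    Full C (g * z * g⁻¹) := by
  have : Fact (Nat.Prime 2) := ⟨Nat.prime_two⟩
  obtain ⟨z', hz'⟩ : ∃ z', z' = g * z * g⁻¹ := ⟨_, rfl⟩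
  rw [← hz'] at hg ⊢
  have hBz : BL (S : Subgroup G) n ≤ centralizer ({z'} : Set G) := by
    intro b hb
    rw [mem_centralizer_singleton_iff]
    exact (mem_centralizer_iff.1 hb.2 z' hg).symm
  have hSz : ((g • S : Sylow 2 G) : Subgroup G) ≤ centralizer ({z'} : Set G) := by
    rw [Sylow.coe_subgroup_smul]
    rintro _ ⟨s, hs, rfl⟩
    rw [mem_centralizer_singleton_iff]
    have h1 := cent hL hz hf (S_norm_B hs)
    change g * s * g⁻¹ * z' = z' * (g * s * g⁻¹)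
    rw [hz']
    calc g * s * g⁻¹ * (g * z * g⁻¹) = g * (s * z) * g⁻¹ := by group
      _ = g * (z * s) * g⁻¹ := by rw [h1]
      _ = _ := by group
  have hB2 : IsPGroup 2 ((BL (S : Subgroup G) n).subgroupOf (centralizer ({z'} : Set G))) :=
    (SwapL.lb S n).Bp.comap_of_injective _ (Subgroup.subtype_injective _)
  obtain ⟨R, hR⟩ := hB2.exists_le_sylow
  obtain ⟨x, hx⟩ := MulAction.exists_smul_eq (centralizer ({z'} : Set G)) ((g • S).subtype hSz) R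
  have h2 : BL (S : Subgroup G) n ≤ cj ((x : G) * g) (S : Subgroup G) := by
    intro b hb
    have h3 : (⟨b, hBz hb⟩ : centralizer ({z'} : Set G)) ∈ R := hR hb
    rw [← hx] at h3
    obtain ⟨⟨c, hc⟩, hc1, e⟩ := h3
    obtain ⟨s, hs, rfl⟩ := hc1
    refine ⟨s, hs, ?_⟩
    have e2 : (x : G) * (g * s * g⁻¹) * (x : G)⁻¹ = b := congrArg Subtype.val e
    change (x : G) * g * s * ((x : G) * g)⁻¹ = b
    rw [← e2]
    group
  have h3 : cj ((x : G) * g)⁻¹ (BL (S : Subgroup G) n) ≤ (S : Subgroup G) := by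
    have := cj_mono ((x : G) * g)⁻¹ h2
    rwa [cj_inv_cj] at this
  have h4 : ((x : G) * g)⁻¹ ∈ normalizer (BL (S : Subgroup G) n : Set G) :=
    mem_normalizer_iff_cj.2 (SwapL.wc S n (S : Subgroup G) S.isPGroup' (SwapL.lb S n).BS _ h3)
  have h5 : (x : G) * g ∈ normalizer (BL (S : Subgroup G) n : Set G) := inv_mem_iff.1 h4
  have h6 := full_norm hL h5 hz hf
  have e : (x : G) * g * z * ((x : G) * g)⁻¹ = z' := by
    have h7 := mem_centralizer_singleton_iff.1 x.2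
    calc (x : G) * g * z * ((x : G) * g)⁻¹ = x * (g * z * g⁻¹) * (x : G)⁻¹ := by group
      _ = z' := by rw [← hz', h7]; group
  rwa [e] at h6

/-- **(L)** for a line of `YB` on `Ω₁Z(lev S j)`, `j ≤ n`, without `Tr`. -/
theorem lineZ_yb (hL : LnV S V Q n L W Z C A) {j : ℕ} (hj : j ≤ n) {Λ : Type*}
    {N c : Λ → Subgroup G} (hy : YB (BL (S : Subgroup G) n) (zc (lev (S : Subgroup G) j)) N c) {l : Λ}
    (hfix : ∀ b ∈ BL (S : Subgroup G) n, Mv N c b l l) (hcV : c l ≤ V)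
    (hc4 : Nat.card (c l) = 4) (hZJ : ¬ ZL (S : Subgroup G) n ≤ N l) {τ : G}
    (hτc : ∀ x ∈ c l, τ * x * τ⁻¹ ∈ c l) (hτ1 : ∀ x ∈ c l, τ * x * τ⁻¹ = x → x = 1)
    (hτN : ∀ x ∈ N l, τ * x * τ⁻¹ = x) :
    ∃ i, c l = W i ∧ ∀ m, m ≠ i → Z m ≤ N l := by
  refine lineZ hL.fr (fun _ hz _ hg hf => full_of_conj hL hz hg hf) hcV hc4 (fun x hx => hy.fix l x ?_) (hy.triv l)
    (fun b hb x hx => ?_) (fun b hb x hx => ?_) hZJ hτc hτ1 hτN
  · exact (NO3S.Level.lev_isLev (S : Subgroup G) j).zc_le_zc (NO3S.Level.lev_mono _ hj) (NO3S.Level.lev_le _ n) hx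
  · have h1 := (hfix b hb).2
    have h2 : b * x * b⁻¹ ∈ cj b (c l) := ⟨x, hx, rfl⟩
    rwa [h1] at h2
  · have h1 := (hfix b hb).1
    have h2 : b * x * b⁻¹ ∈ cj b (N l) := ⟨x, hx, rfl⟩
    rwa [h1] at h2

/-- **(L)** for a line of `YB` on `Ω₁Z(lev S j)`, `j ≤ n`, with `Tr`. -/
theorem line_yb (hL : LnV S V Q n L W Z C A) (htr : Tr W Z C) {j : ℕ} (hj : j ≤ n) {Λ : Type*}
    {N c : Λ → Subgroup G} (hy : YB (BL (S : Subgroup G) n) (zc (lev (S : Subgroup G) j)) N c) {l : Λ}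
    (hfix : ∀ b ∈ BL (S : Subgroup G) n, Mv N c b l l) (hcV : c l ≤ V)
    (hc4 : Nat.card (c l) = 4) (hZJ : ¬ ZL (S : Subgroup G) n ≤ N l) {τ : G}
    (hτc : ∀ x ∈ c l, τ * x * τ⁻¹ ∈ c l) (hτ1 : ∀ x ∈ c l, τ * x * τ⁻¹ = x → x = 1)
    (hτN : ∀ x ∈ N l, τ * x * τ⁻¹ = x) :
    ∃ i, c l = W i ∧ (∀ m, m ≠ i → W m ≤ N l) ∧ ∀ m, m ≠ i → Z m ≤ N l := by
  refine line hL.fr htr (fun _ hz _ hg hf => full_of_conj hL hz hg hf) hcV hc4 (fun x hx => hy.fix l x ?_) (hy.triv l)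
    (fun b hb x hx => ?_) (fun b hb x hx => ?_) hZJ hτc hτ1 hτN
  · exact (NO3S.Level.lev_isLev (S : Subgroup G) j).zc_le_zc (NO3S.Level.lev_mono _ hj) (NO3S.Level.lev_le _ n) hx
  · have h1 := (hfix b hb).2
    have h2 : b * x * b⁻¹ ∈ cj b (c l) := ⟨x, hx, rfl⟩
    rwa [h1] at h2
  · have h1 := (hfix b hb).1
    have h2 : b * x * b⁻¹ ∈ cj b (N l) := ⟨x, hx, rfl⟩
    rwa [h1] at h2

end W

end Cfsg.Agent.Omega.OM.LowV
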