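import Cfsg.Agent.Omega.OM.Lev.Low.YKInst
import Cfsg.Agent.Omega.OM.LowV.LowTwo

/-!
# The instance of `YK`, `q = 2`, over the frame `LnV`

* `exists_out` : **if `lev S n ≰ O₂(Y)` and `Y` moves `Ω₁Z(T)`, then `Y` is of natural type over `F`, `|F| > 2`, and
  for every block two elements of `V` have different nontrivial components.**
-/

set_option autoImplicit false
set_option linter.unusedSectionVars false

namespace Cfsg.Agent.Omega.OM.LowV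

open Subgroup Cfsg Cfsg.Agent.ZN.ChoiceBase Cfsg.Agent.ZN.ChoiceSit
open Cfsg.Agent.ZN (jj zj bau zc zl o2)
open Cfsg.Agent.MinSimple.MinParabolic (IsMinPar)
open Cfsg.Agent.Omega.NO3S.OneLine (NatC natC_of)
open Cfsg.Agent.Omega.OM.Lev.Nat (Wn mem_Wn)
open Cfsg.Agent.Omega.OM.GLev
open Cfsg.Agent.Omega.FFThm (NatKM SymKM)
open Cfsg.Agent.Omega.FrameFF (cv)
open Cfsg.Agent.Omega.OM.SwapL (ZL)
open Cfsg.Agent.Omega.OM.SwapV.Lv (LnV)
open Cfsg.Agent.Omega.OM.Lev.Low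
open Cfsg.Agent.Omega.NO3S.Level (lev lev_mono lev_isLev Lev lev_le)
open scoped commutatorElement

universe u

variable {G : Type u} [Group G] [Finite G]

/-- **The output of (4), (5), (W).** -/
structure OutN {ι : Type} (S : Sylow 2 G) (V Q : Subgroup G) (n : ℕ) (L W Z C A : ι → Subgroup G) (T Y : Subgroup G)
    (j : ℕ) {F : Type} [Field F] {k : ℕ} (M : NatC F T Y (zl T Y) (cv T Y) k) (K Nn c : Fin k → Subgroup G) :
    Prop where
  inp : Inp S V Q n L W Z C A T Y j K (fun i => Wn M i) Nn c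
  nb : NB' M (LevB.BL (S : Subgroup G) j) (zc (lev (S : Subgroup G) j)) K c
  zT : ∀ l, ¬ zc T ≤ Nn l
  wide : ∀ l, ∃ v ∈ V, ∃ a ∈ c l, a * v ∈ Nn l ∧ a ≠ 1 ∧
      ∃ v' ∈ V, ∃ a' ∈ c l, a' * v' ∈ Nn l ∧ a' ≠ 1 ∧ a ≠ a'

/-- **The output of (4), (5), (W), `q = 2`.** -/
theorem exists_out {ι : Type} [Finite ι] {S : Sylow 2 G} {V Q : Subgroup G} {n : ℕ} {L W Z C A : ι → Subgroup G}
    (h : LnV S V Q n L W Z C A) (two : ∀ i : ι, ∃ j, j ≠ i) {T Y : Subgroup G} (hT : Syl T Y) (hB : SwapL.BL (S : Subgroup G) n ≤ T)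
    (hP : IsMinPar T Y) (hc : Y ⊓ centralizer (o2 Y : Set G) ≤ o2 Y) (hZ : ¬ Y ≤ centralizer (zc T : Set G)) {j : ℕ}
    (hj : j ≤ n) (hlow : ∀ i < j, lev (S : Subgroup G) i ≤ o2 Y) (hnj : ¬ lev (S : Subgroup G) j ≤ o2 Y) :
    ∃ (X : Subgroup G) (AA' : Set (Subgroup G)) (hge : GE T Y X AA')
      (_ : BZ T X AA' (LevB.BL (S : Subgroup G) j) (zc (lev (S : Subgroup G) j))) (_ : ∃ A ∈ AA', ¬ A ≤ o2 Y)
      (F : Type) (_ : Field F) (_ : Finite F) (_ : CharP F 2) (k : ℕ) (hk : 0 < k)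
      (N : NatKM F T Y (zl T Y) (cv T Y) k) (K Nn c : Fin k → Subgroup G),
      OutN S V Q n L W Z C A T Y j (natC_of hge.hm hk N.toNatK) K Nn c := by
  have hBj : LevB.BL (S : Subgroup G) j ≤ T := (BL_mono (S : Subgroup G) (by omega : j ≤ n + 1)).trans hB
  obtain ⟨X, AA', hge, hbz, hex, hcon⟩ := exists_ge S hT hBj hP hc hlow hnj hZ
  have hzT : ∀ {Λ : Type} {K E Nn c : Λ → Subgroup G},
      YK T Y (zc (lev (S : Subgroup G) j)) (LevB.BL (S : Subgroup G) j) K E Nn c → ∀ l, ¬ zc T ≤ Nn l := by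
    intro Λ K E Nn c hyk l hle
    refine hZ ((hyk.sup l).trans (sup_le (NO3S.Level.le_centralizer_zc T) fun x hx => mem_centralizer_iff.2
      fun z hz => ?_))
    have hzX : z ∈ zc (lev (S : Subgroup G) j) :=
      (isLev_le hT.2.1 hBj hz : z ∈ zc (lev (S : Subgroup G) j))
    exact ((hyk.memN l z hzX).1 (hle hz) x hx).symm
  rcases hcon with ⟨F, hF1, hF2, hF3, k, hk, ⟨N⟩⟩ | ⟨k, m, hk, hm, ⟨N⟩⟩
  · obtain ⟨K, Nn, c, hyk, hnb⟩ := yk_nat hge hbz N hk hex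
    have hin : Inp S V Q n L W Z C A T Y j K (fun i => Wn (natC_of hge.hm hk N.toNatK) i) Nn c :=
      ⟨h, two, hT, hB, hj, hc, hlow, hyk⟩
    have hz := hzT hyk
    exact ⟨X, AA', hge, hbz, hex, F, hF1, hF2, hF3, k, hk, N, K, Nn, c, hin, hnb, hz, hin.wide ⟨⟨0, hk⟩, hz _⟩⟩
  · exfalso
    obtain ⟨ι', hf, ⟨i⟩, W', K, d, hyk, hpb, hd2⟩ := yk_sym hge hbz N hk (by omega) hex
    have hin : Inp S V Q n L W Z C A T Y j K W' (fun i => centralizer (K i : Set G)) (fun i => zpowers (d i)) :=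
      ⟨h, two, hT, hB, hj, hc, hlow, hyk⟩
    obtain ⟨v, -, a, ha, -, ha1, v', -, a', ha', -, ha1', hne⟩ := hin.wide ⟨i, hzT hyk i⟩ i
    have h1 : ∀ x ∈ zpowers (d i), x ≠ 1 → x = d i := by
      intro x hx hx1
      obtain ⟨r, rfl⟩ := mem_zpowers_iff.1 hx
      rcases Int.even_or_odd r with ⟨s, rfl⟩ | ⟨s, rfl⟩
      · exfalso
        apply hx1
        rw [← two_mul, zpow_mul, zpow_ofNat, pow_two, hd2, one_zpow]
      · rw [zpow_add, zpow_mul, zpow_ofNat, pow_two, hd2, one_zpow, one_mul, zpow_one]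
    exact hne ((h1 a ha ha1).trans (h1 a' ha' ha1').symm)
where
  isLev_le {S : Sylow 2 G} {T : Subgroup G} {j : ℕ} (hT : IsPGroup 2 T) (hB : LevB.BL (S : Subgroup G) j ≤ T) :
      zc T ≤ zc (lev (S : Subgroup G) j) :=
    (LevB.isLev_T S hT ((LevB.lb S j).KB.trans hB)).zc_le

end Cfsg.Agent.Omega.OM.LowV
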