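import Cfsg.Agent.Omega.OM.LowV.Core
import Cfsg.Agent.Omega.OM.Lev.Low.TorusK.Inst
import Cfsg.Agent.Omega.OM.Lev.Low.TorusK.Fam

/-!
# TORUS over the frame `LnV`: the instances of `BK` and `NA`

* `bk_of`, `na_of`;
* **`exists_bk`** : a minimal parabolic `R` over `B` of lower stage which moves `Ω₁Z(B)` has a torus block `BK`, if
  `Tr W Z C` (`L i` is transitive on `W i` by elements which centralise `C i`).
-/

set_option autoImplicit false
set_option linter.unusedSectionVars false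

namespace Cfsg.Agent.Omega.OM.LowV

open Subgroup Cfsg Cfsg.Agent.ZN.ChoiceBase Cfsg.Agent.ZN.ChoiceSit
open Cfsg.Agent.ZN (jj zj bau zc zl o2)
open Cfsg.Agent.MinSimple.MinParabolic (IsMinPar)
open Cfsg.Agent.Omega.OM.SwapL (ZL BL)
open Cfsg.Agent.Omega.OM.SwapV.Lv (LnV)
open Cfsg.Agent.Omega.NO3S.Level (lev lev_mono lev_isLev Lev lev_le BO nxt)
open Cfsg.Agent.Omega.FrameFF (cv)
open Cfsg.Agent.Omega.OM.Lev.Low
open Cfsg.Agent.Omega.OM.Lev.Low.TorusK (BK NA stM stY)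
open Cfsg.Agent.Omega.OM.Lev.Low.Line (Tr)

universe u

variable {G : Type u} [Group G] [Finite G]

section bk

variable {ι : Type} {S : Sylow 2 G} {V Q : Subgroup G} {n : ℕ} {L W Z C A : ι → Subgroup G} {R : Subgroup G}
  {j : ℕ} {K N₁ c : Subgroup G} {τ : G} {l : ι}

/-- `R` normalises the levels `< j` -/
theorem R_norm (h : Blk S V Q n L W Z C A R j K N₁ c τ l) {m : ℕ} (hm : m < j) :
    R ≤ normalizer (lev (S : Subgroup G) m : Set G) :=
  (lev_isLev (S : Subgroup G) m).le_norm_of_o2 (h.low m hm) ((o2_le_syl h.syl).trans (SwapL.lb S n).BS)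

/-- `⟨Ω₁Z(B)^R⟩ ≤ Ω₁Z(lev S m)`, `m < j` -/
theorem zl_le_lev (h : Blk S V Q n L W Z C A R j K N₁ c τ l) {m : ℕ} (hm : m < j) :
    zl (BL (S : Subgroup G) n) R ≤ zc (lev (S : Subgroup G) m) := by
  have h1 : zc (BL (S : Subgroup G) n) ≤ zc (lev (S : Subgroup G) m) := by
    have h2 : zc (BL (S : Subgroup G) n) = ZL (S : Subgroup G) n := h.ln.fr.zcB
    rw [h2]
    exact (lev_isLev (S : Subgroup G) m).zc_le_zc (lev_mono _ (by have := h.jn; omega)) (lev_le _ _)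
  refine iSup_le fun g => ?_
  have h2 := (R_norm h hm).trans (NO3S.Level.normalizer_le_zc _)
  have h3 := cj_mono (g : G) h1
  rwa [cj_eq_of_mem_normalizer (h2 g.2)] at h3

/-- **The instance of `BK`.** -/
theorem bk_of (h : Blk S V Q n L W Z C A R j K N₁ c τ l) (hW : ∀ m, m ≠ l → W m ≤ centralizer (K : Set G)) :
    BK (BL (S : Subgroup G) n) (LevB.BL (S : Subgroup G) j) (zc (lev (S : Subgroup G) j)) (stM (S : Subgroup G) j)
      (stY (S : Subgroup G) j) W l K (zl (BL (S : Subgroup G) n) R) N₁ (cv (BL (S : Subgroup G) n) R) where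
  pb := h.pb
  NY := by
    cases j with
    | zero => exact le_top
    | succ m => exact zl_le_lev h (Nat.lt_succ_self m)
  KM := by
    cases j with
    | zero => exact le_top
    | succ m => exact h.KR.trans (R_norm h (Nat.lt_succ_self m))
  WN := h.cW ▸ h.cN1
  WN0 := h.cW ▸ h.cD
  cW := fun p hp w hw k hk => mem_centralizer_iff.1 (hW p hp hw) k hk
  BX := fun b hb => mem_normalizer_iff_cj.2 (h.fix b hb).1
  tor := by
    refine ⟨τ, h.τK, h.τB0, fun w hw => ?_, fun w hw => h.τ1 w (h.cW ▸ hw)⟩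
    rw [← h.cW] at hw ⊢
    have h1 : τ * w * τ⁻¹ ∈ cj τ c := ⟨w, hw, rfl⟩
    rwa [h.τc] at h1

/-- **The instance of `NA`.** -/
theorem na_of (h : Blk S V Q n L W Z C A R j K N₁ c τ l) : NA (BL (S : Subgroup G) n) K (zl (BL (S : Subgroup G) n) R) :=
  ⟨h.nK, h.act⟩

end bk

/-- **The torus block of `R`.** -/
theorem exists_bk {ι : Type} [Finite ι] [Nonempty ι] {S : Sylow 2 G} {V Q : Subgroup G} {n : ℕ}
    {L W Z C A : ι → Subgroup G} (h : LnV S V Q n L W Z C A) (htr : Tr W Z C) (two : ∀ i : ι, ∃ j, j ≠ i)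
    {R : Subgroup G} (hP : IsMinPar (BL (S : Subgroup G) n) R) (hT : Syl (BL (S : Subgroup G) n) R)
    (hc : R ⊓ centralizer (o2 R : Set G) ≤ o2 R) (hn : ¬ lev (S : Subgroup G) n ≤ o2 R)
    (hZ : ¬ R ≤ centralizer (zc (BL (S : Subgroup G) n) : Set G)) :
    ∃ j ≤ n, ∃ (l : ι) (K N N1 N0 : Subgroup G),
      BK (BL (S : Subgroup G) n) (LevB.BL (S : Subgroup G) j) (zc (lev (S : Subgroup G) j)) (stM (S : Subgroup G) j)
        (stY (S : Subgroup G) j) W l K N N1 N0 ∧ NA (BL (S : Subgroup G) n) K N := by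
  obtain ⟨j, K, N₁, c, τ, l, hb, hW⟩ := exists_blk h two hP hT hc hn hZ
  exact ⟨j, hb.jn, l, K, _, N₁, _, bk_of hb (hW htr), na_of hb⟩

end Cfsg.Agent.Omega.OM.LowV
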