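import Cfsg.Agent.Omega.OM.SwapV.Torus.SplitTwo

/-!
# TORUS in box R, light pairs with a common letter (helper400)

`BZ` : a torus block `K` over `B₀` with line `W l` which centralises the `Z p`, `p ≠ l` (not the `W p`).

* `Gd g l` : `g` normalises `B₀`, `g ∈ M₀`, `g` centralises all `Z p`, `p ≠ m`, for one `m ≠ l`;
* `uniG` : for such `g`, `[N, K]^g X = [N, K] X`; `chG` : `g` normalises `[[N, K], B₀]`;
* `cen_ch` : an element of `B` which centralises `W l` centralises `[[N, K], B₀]`;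
* `ch_cen` : `[[N, K], B₀] ∩ C(K) = 1` (all lines conjugate); `ch_W` : `[[N, K], B₀] = W l`;
* **`cjW`** : `g` normalises `W l`.
-/

set_option autoImplicit false
set_option linter.unusedSectionVars false

namespace Cfsg.Agent.Omega.OM.LowV.Cross

open Subgroup Cfsg Cfsg.Agent.ZN Cfsg.Agent.ZN.ChoiceBase
open Cfsg.Agent.Omega.OM.Lev.Low.TorusK (uni cB_eq)
open Cfsg.Agent.Omega.OM.Lev.Low.TorusV (TK exists_fix_mod comm_cjj comm_supX)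
open Cfsg.Agent.Omega.OM.Lev.Low
open Cfsg.Agent.Omega.SQ1.Bau (mem_sup_comm card_sup_comm elem_comm elem_sq)
open Cfsg.Agent.Omega.NO3S.Level.Claim (Fm Bl cB mem_cB cB_le)
open Cfsg.Agent.Omega.OM.Lev.Uni (FrL)
open Cfsg.Agent.Omega.OM.Lev.Low.TorusK.PBC
open scoped commutatorElement

universe u

variable {G : Type u} [Group G] {ι : Type} {S B Q V Xn ZJ B0 X M0 Y0 : Subgroup G} {L W Z C A : ι → Subgroup G} {z : G}
  {l : ι} {K N N1 N0 : Subgroup G}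

/-- A torus block `K` over `B₀` with line `W l`, module `[N, K]`, which centralises the `Z p`, `p ≠ l`. -/
structure BZ {ι : Type} (B B0 X M0 Y0 : Subgroup G) (W Z : ι → Subgroup G) (l : ι) (K N N1 N0 : Subgroup G) :
    Prop where
  pb : PB B0 K N N1 N0 4
  NY : N ≤ Y0
  KM : K ≤ M0
  WN : W l ≤ N1
  WN0 : W l ⊓ N0 = ⊥
  cZ : ∀ p, p ≠ l → ∀ w ∈ Z p, ∀ k ∈ K, k * w = w * k
  BX : B ≤ normalizer ((X ⊓ centralizer (K : Set G) : Subgroup G) : Set G)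
  /-- a torus element -/
  tor : ∃ h ∈ K, h ∈ normalizer (B0 : Set G) ∧ (∀ w ∈ W l, h * w * h⁻¹ ∈ W l) ∧ ∀ w ∈ W l, h * w * h⁻¹ = w → w = 1
  cc : W l ≤ ⁅⁅N, K⁆, B0⁆

/-- `g` normalises `B₀`, `g ∈ M₀`, `g` centralises all `Z p`, `p ≠ m`, for one `m ≠ l`. -/
structure Gd {ι : Type} (B0 M0 : Subgroup G) (Z : ι → Subgroup G) (l : ι) (g : G) : Prop where
  nB : g ∈ normalizer (B0 : Set G)
  M : g ∈ M0
  cz : ∃ m, m ≠ l ∧ ∀ p, p ≠ m → ∀ x ∈ Z p, g * x = x * g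

namespace BZ

/-- the block over one index -/
theorem bk (k : BZ B B0 X M0 Y0 W Z l K N N1 N0) : TorusV.BK B B0 X M0 Y0 (fun _ : Unit => W l) () K N N1 N0 :=
  ⟨k.pb, k.NY, k.KM, k.WN, k.WN0, fun p hp => absurd (Subsingleton.elim p ()) hp, k.BX, k.tor⟩

theorem VB0 [Finite G] (k : BZ B B0 X M0 Y0 W Z l K N N1 N0) : ⁅N, K⁆ ≤ B0 := k.pb.VN.trans k.pb.NB

theorem VY0 [Finite G] (k : BZ B B0 X M0 Y0 W Z l K N N1 N0) : ⁅N, K⁆ ≤ Y0 := k.pb.VN.trans k.NY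

theorem W_cen (k : BZ B B0 X M0 Y0 W Z l K N N1 N0) {w : G} (hw : w ∈ W l) (hc : ∀ g ∈ K, g * w = w * g) : w = 1 :=
  k.bk.W_cen hw hc

/-- **conjugates** -/
theorem cj (h : TK S B Q V Xn ZJ B0 X M0 Y0 L W Z C A z) [Finite G] (k : BZ B B0 X M0 Y0 W Z l K N N1 N0) {s : G}
    (hs : s ∈ S) {m : ι} (hm : ChoiceBase.cj s (W l) = W m) :
    BZ B B0 X M0 Y0 W Z m (ChoiceBase.cj s K) (ChoiceBase.cj s N) (ChoiceBase.cj s N1) (ChoiceBase.cj s N0) where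
  pb := by
    have h1 := pb_cj k.pb s
    rwa [cj_eq_of_mem_normalizer (h.SB0 hs)] at h1
  NY := by
    have h1 := cj_mono s k.NY
    rwa [cj_eq_of_mem_normalizer (h.SMY hs)] at h1
  KM := by
    have h1 := cj_mono s k.KM
    rwa [cj_eq_of_mem_normalizer (le_normalizer (h.SM hs))] at h1
  WN := by rw [← hm]; exact cj_mono s k.WN
  WN0 := by
    rw [← hm, ← cj_inf, k.WN0]
    exact Subgroup.map_bot _
  cZ := by
    intro p hp w hw x hx0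
    obtain ⟨x, hx, rfl⟩ := ex_cj hx0
    obtain ⟨j, hj, hjZ, -⟩ := h.perm s⁻¹ (inv_mem hs) p
    have hjl : j ≠ l := fun e => hp (by
      have h1 : ChoiceBase.cj s (W j) = W p := by rw [← hj, cj_cj, mul_inv_cancel, cj_one]
      rw [e, hm] at h1
      by_contra hne
      have h2 := h.fr.WjC m p (Ne.symm hne)
      rw [← h1] at h2
      have h3 : W m ≤ W m ⊓ C m := le_inf le_rfl h2
      rw [h.fr.dir m] at h3
      have h4 := h.cardW m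
      rw [eq_bot_iff.2 h3, Subgroup.card_bot] at h4
      omega)
    have hw' : s⁻¹ * w * s ∈ Z j := by
      rw [← hjZ, mem_cj']
      simpa [mul_assoc] using hw
    have h1 := k.cZ j hjl _ hw' x hx
    have h2 := (Cfsg.Agent.Omega.OM.Lev.Low.TorusK.PBC.comm_cj (g := s)).2 h1
    have e : s * (s⁻¹ * w * s) * s⁻¹ = w := by group
    rwa [e] at h2
  BX := by
    have h1 : ChoiceBase.cj s (X ⊓ centralizer (K : Set G)) = X ⊓ centralizer (ChoiceBase.cj s K : Set G) := by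
      rw [cj_inf, cj_centralizer, cj_eq_of_mem_normalizer (h.SX hs)]
    rw [← h1]
    intro b hb
    rw [mem_normalizer_iff_cj]
    have hb' : s⁻¹ * b * s ∈ B := by
      have := (mem_normalizer_iff.1 (inv_mem (h.SB hs)) b).1 hb
      simpa using this
    have h2 := cj_eq_of_mem_normalizer (k.BX hb')
    rw [cj_cj, show b * s = s * (s⁻¹ * b * s) by group, ← cj_cj, h2]
  tor := by
    obtain ⟨x, hx, hxB, hxW, hxf⟩ := k.tor
    refine ⟨_, cj_mem hx, ?_, ?_, ?_⟩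
    · have h1 : s ∈ normalizer (B0 : Set G) := h.SB0 hs
      exact mul_mem (mul_mem h1 hxB) (inv_mem h1)
    · intro w hw0
      rw [← hm] at hw0 ⊢
      obtain ⟨w, hw, rfl⟩ := ex_cj hw0
      have e : s * x * s⁻¹ * (s * w * s⁻¹) * (s * x * s⁻¹)⁻¹ = s * (x * w * x⁻¹) * s⁻¹ := by group
      rw [e]
      exact cj_mem (hxW w hw)
    · intro w hw0 he
      rw [← hm] at hw0
      obtain ⟨w, hw, rfl⟩ := ex_cj hw0
      have e : s * x * s⁻¹ * (s * w * s⁻¹) * (s * x * s⁻¹)⁻¹ = s * (x * w * x⁻¹) * s⁻¹ := by group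
      rw [e] at he
      have h1 := hxf w hw (mul_left_cancel (mul_right_cancel he))
      rw [h1]; group
  cc := by
    have h1 := cj_mono s k.cc
    rw [hm, ← comm_cjj, ← comm_cjj, cj_eq_of_mem_normalizer (h.SB0 hs)] at h1
    exact h1

/-- `[X, K] ≤ [N, K]` -/
theorem act [Finite G] (h : TK S B Q V Xn ZJ B0 X M0 Y0 L W Z C A z) (k : BZ B B0 X M0 Y0 W Z l K N N1 N0) {g x : G}
    (hg : g ∈ K) (hx : x ∈ X) : g * x * g⁻¹ * x⁻¹ ∈ (⁅N, K⁆ : Subgroup G) := by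
  rw [← h.zB] at hx
  obtain ⟨c, hc, hcl, n, hn, rfl⟩ := k.pb.Z_split hx
  have h1 := k.pb.comm_mem hg (k.pb.N1N hn)
  have h2 : c * (g * n * g⁻¹ * n⁻¹) = (g * n * g⁻¹ * n⁻¹) * c :=
    ((ChoiceBase.mem_zc.1 hc).2.2 _ (k.pb.NB (k.pb.VN h1))).symm
  have e : g * (c * n) * g⁻¹ * (c * n)⁻¹ = g * n * g⁻¹ * n⁻¹ := by
    calc g * (c * n) * g⁻¹ * (c * n)⁻¹ = (g * c) * n * g⁻¹ * (n⁻¹ * c⁻¹) := by group
      _ = (c * g) * n * g⁻¹ * (n⁻¹ * c⁻¹) := by rw [hcl g hg]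
      _ = c * (g * n * g⁻¹ * n⁻¹) * c⁻¹ := by group
      _ = (g * n * g⁻¹ * n⁻¹) * c * c⁻¹ := by rw [h2]
      _ = _ := by group
  rw [e]
  exact h1

end BZ

theorem Gd.nX [Finite G] (h : TK S B Q V Xn ZJ B0 X M0 Y0 L W Z C A z) {g : G} (hg : Gd B0 M0 Z l g) :
    ChoiceBase.cj g X = X := by
  rw [← h.zB, ← zc_cj', cj_eq_of_mem_normalizer hg.nB]

/-- **(UNI)** for `K`, `K^g`. -/
theorem uniG [Finite G] (h : TK S B Q V Xn ZJ B0 X M0 Y0 L W Z C A z) (k : BZ B B0 X M0 Y0 W Z l K N N1 N0) {g : G}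
    (hg : Gd B0 M0 Z l g) :
    cj g ⁅N, K⁆ ≤ ⁅N, K⁆ ⊔ X ∧ ⁅N, K⁆ ≤ cj g ⁅N, K⁆ ⊔ X ∧ cB B0 ⁅N, K⁆ = cB B0 (cj g ⁅N, K⁆) := by
  obtain ⟨m, hm, hz⟩ := hg.cz
  obtain ⟨E, hE, hEB, hZE, hn⟩ := h.loc2 l m (Ne.symm hm)
  obtain ⟨x, hx, hx1⟩ := h.exists_Z l
  obtain ⟨y, hy, hy1⟩ := h.exists_Z m
  have hxy := hZE x hx y hy hx1 hy1
  have hKE : K ≤ normalizer (E : Set G) := fun a ha => hn a fun p hp _ w hw => k.cZ p hp w hw a ha
  have hgE : g ∈ normalizer (E : Set G) := hn g fun p _ hp w hw => hz p hp w hw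
  have hFE : ⁅N, K⁆ ≤ E := k.bk.le_of' hKE (w := x) (h.ZW l hx) hx1 (c := y) (fun a ha => k.cZ m hm y hy a ha) hxy
  have hgX : cj g X = X := hg.nX h
  have hgY : cj g Y0 = Y0 := cj_eq_of_mem_normalizer (h.MY hg.M)
  have hgE' : cj g E = E := cj_eq_of_mem_normalizer hgE
  -- `U`
  obtain ⟨U, hU0⟩ : ∃ U, U = E ⊓ centralizer (X : Set G) ⊓ Y0 := ⟨_, rfl⟩
  have hgU : cj g U = U := by rw [hU0, cj_inf, cj_inf, cj_centralizer, hgX, hgY, hgE']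
  have hU : IsElementaryAbelian 2 U := by
    rw [hU0]
    exact Cfsg.Agent.PLocal.ThompsonJ.isElementaryAbelian_mono hE (inf_le_left.trans inf_le_left)
  have hUB : U ≤ B0 := by
    rw [hU0]
    rintro e ⟨⟨h1, h2⟩, -⟩
    exact hEB e h1 fun x hx => (mem_centralizer_iff.1 h2 x hx).symm
  have hUY : U ≤ Y0 := by rw [hU0]; exact inf_le_right
  have hFU : ⁅N, K⁆ ≤ U := by
    rw [hU0]
    exact le_inf (le_inf hFE fun v hv => mem_centralizer_iff.2 fun x hx => (h.cX (k.VB0 hv) hx).symm) k.VY0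
  have hKU : K ≤ normalizer (U : Set G) := by
    rw [hU0]
    have key : ∀ g ∈ K, cj g (E ⊓ centralizer (X : Set G) ⊓ Y0) ≤ E ⊓ centralizer (X : Set G) ⊓ Y0 := by
      intro g hg y hy0
      obtain ⟨y, ⟨⟨hyE, hyX⟩, hyY⟩, rfl⟩ := ex_cj hy0
      refine ⟨⟨(mem_normalizer_iff.1 (hKE hg) _).1 hyE, mem_centralizer_iff.2 fun x hx => ?_⟩,
        (mem_normalizer_iff.1 (h.MY (k.KM hg)) _).1 hyY⟩
      have h1 := k.act h (inv_mem hg) hx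
      have h2 : y * (g⁻¹ * x * g⁻¹⁻¹ * x⁻¹) = (g⁻¹ * x * g⁻¹⁻¹ * x⁻¹) * y := elem_comm hE y hyE _ (hFE h1)
      have h3 : x * y = y * x := mem_centralizer_iff.1 hyX x hx
      have h4 : y * (g⁻¹ * x * g) = (g⁻¹ * x * g) * y := by
        calc y * (g⁻¹ * x * g) = y * (g⁻¹ * x * g⁻¹⁻¹ * x⁻¹) * x := by group
          _ = (g⁻¹ * x * g⁻¹⁻¹ * x⁻¹) * (y * x) := by rw [h2]; group
          _ = (g⁻¹ * x * g⁻¹⁻¹ * x⁻¹) * (x * y) := by rw [h3]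
          _ = _ := by group
      calc x * (g * y * g⁻¹) = g * ((g⁻¹ * x * g) * y) * g⁻¹ := by group
        _ = g * (y * (g⁻¹ * x * g)) * g⁻¹ := by rw [h4]
        _ = _ := by group
    exact fun g hg => mem_normalizer_of_cj_le (key g hg)
  have hgU' : g ∈ normalizer (U : Set G) := mem_normalizer_iff_cj.2 hgU
  have hFU' : cj g ⁅N, K⁆ ≤ U := by
    have h1 := cj_mono g hFU
    rwa [hgU] at h1
  have hKU' : cj g K ≤ normalizer (U : Set G) := by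
    intro a' ha'
    obtain ⟨a, ha, rfl⟩ := ex_cj ha'
    exact mul_mem (mul_mem hgU' (hKU ha)) (inv_mem hgU')
  have hKM' : cj g K ≤ M0 := by
    intro a' ha'
    obtain ⟨a, ha, rfl⟩ := ex_cj ha'
    exact mul_mem (mul_mem hg.M (k.KM ha)) (inv_mem hg.M)
  obtain ⟨T, AA, f⟩ := h.fml U (normalizer (U : Set G) ⊓ M0) hU hUB hUY inf_le_left inf_le_right
  have b1 := BlOf.bl_V k.pb f (by rw [h.zB]) hFU (le_inf hKU k.KM) hKU
  have pb' : PB B0 (cj g K) (cj g N) (cj g N1) (cj g N0) 4 := by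
    have h1 := pb_cj k.pb g
    rwa [cj_eq_of_mem_normalizer hg.nB] at h1
  have b2 := BlOf.bl_V pb' f (by rw [h.zB]) (by rw [comm_cjj]; exact hFU') (le_inf hKU' hKM') hKU'
  rw [comm_cjj] at b2
  -- an element of `⁅F', B₀⁆` which is not centralised
  have hxg : g * x = x * g := hz l (Ne.symm hm) x hx
  have key : ∀ F K' : Subgroup G, (∀ b ∈ B0, ∀ v ∈ F, b * v * b⁻¹ * v⁻¹ ∈ centralizer (K' : Set G)) →
      x ∈ (⁅F, B0⁆ : Subgroup G) → x ∈ centralizer (K' : Set G) := by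
    intro F K' h1 h2
    have h3 : (⁅F, B0⁆ : Subgroup G) ≤ centralizer (K' : Set G) := by
      rw [Subgroup.commutator_le]
      intro v hv b hb
      have e : ⁅v, b⁆ = (b * v * b⁻¹ * v⁻¹)⁻¹ := by rw [commutatorElement_def]; group
      rw [e]
      exact inv_mem (h1 b hb v hv)
    exact h3 h2
  have hm1 : ∃ b ∈ B0, ∃ v ∈ cj g ⁅N, K⁆, b * v * b⁻¹ * v⁻¹ ∉ centralizer (K : Set G) := by
    by_contra hcon
    push Not at hcon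
    have h1 : x ∈ (⁅cj g ⁅N, K⁆, B0⁆ : Subgroup G) := by
      have h2 : ChoiceBase.cj g B0 = B0 := cj_eq_of_mem_normalizer hg.nB
      have h3 : (⁅cj g ⁅N, K⁆, B0⁆ : Subgroup G) = cj g ⁅⁅N, K⁆, B0⁆ := by
        conv_lhs => rw [← h2]
        exact comm_cjj g _ _
      rw [h3]
      have h4 := cj_mem (g := g) (k.cc (h.ZW l hx))
      have e : g * x * g⁻¹ = x := by rw [hxg]; group
      rwa [e] at h4
    have h5 := key _ _ hcon h1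
    exact hx1 (k.W_cen (h.ZW l hx) fun a ha => mem_centralizer_iff.1 h5 a ha)
  have hm2 : ∃ b ∈ B0, ∃ v ∈ (⁅N, K⁆ : Subgroup G), b * v * b⁻¹ * v⁻¹ ∉ centralizer (cj g K : Set G) := by
    by_contra hcon
    push Not at hcon
    have h5 := key _ _ hcon (k.cc (h.ZW l hx))
    refine hx1 (k.W_cen (h.ZW l hx) fun a ha => ?_)
    have h6 := mem_centralizer_iff.1 h5 _ (cj_mem (g := g) ha)
    have e : x = g * x * g⁻¹ := by rw [hxg]; group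
    rw [e] at h6
    exact Cfsg.Agent.Omega.OM.Lev.Low.TorusK.PBC.comm_cj.1 h6
  exact ⟨(uni f b1 b2 hm1).trans (sup_le_sup_left inf_le_right _),
    (uni f b2 b1 hm2).trans (sup_le_sup_left inf_le_right _), cB_eq f b1 b2 hm1⟩

/-- `g` normalises `[[N, K], B₀]` -/
theorem chG [Finite G] (h : TK S B Q V Xn ZJ B0 X M0 Y0 L W Z C A z) (k : BZ B B0 X M0 Y0 W Z l K N N1 N0) {g : G}
    (hg : Gd B0 M0 Z l g) : cj g ⁅⁅N, K⁆, B0⁆ = ⁅⁅N, K⁆, B0⁆ := by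
  obtain ⟨h1, h2, -⟩ := uniG h k hg
  have h3 : cj g ⁅⁅N, K⁆, B0⁆ = ⁅cj g ⁅N, K⁆, B0⁆ := by
    have h4 : cj g B0 = B0 := cj_eq_of_mem_normalizer hg.nB
    conv_rhs => rw [← h4]
    exact (comm_cjj g _ _).symm
  have h5 : cj g ⁅N, K⁆ ≤ B0 := by
    have h4 := cj_mono g k.VB0
    rwa [cj_eq_of_mem_normalizer hg.nB] at h4
  rw [h3]
  exact le_antisymm (comm_supX h h1 k.VB0) (comm_supX h h2 h5)

namespace BZ

theorem N0X [Finite G] (h : TK S B Q V Xn ZJ B0 X M0 Y0 L W Z C A z) (k : BZ B B0 X M0 Y0 W Z l K N N1 N0) {n : G}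
    (hn : n ∈ N0) : n ∈ X ⊓ centralizer (K : Set G) := by
  refine mem_inf.2 ⟨?_, mem_centralizer_iff.2 fun g hg => k.pb.N0c g hg n hn⟩
  rw [← h.zB]
  exact (BlOf.line_iff k.pb (k.pb.N1N (k.pb.N01 hn))).1 (k.pb.N01 hn)

theorem N1X [Finite G] (h : TK S B Q V Xn ZJ B0 X M0 Y0 L W Z C A z) (k : BZ B B0 X M0 Y0 W Z l K N N1 N0) {n : G}
    (hn : n ∈ N) : n ∈ N1 ↔ n ∈ X := by
  rw [← h.zB]
  exact BlOf.line_iff k.pb hn

theorem split1 [Finite G] (h : TK S B Q V Xn ZJ B0 X M0 Y0 L W Z C A z) (k : BZ B B0 X M0 Y0 W Z l K N N1 N0) {n : G}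
    (hn : n ∈ N1) : ∃ w ∈ W l, ∃ n0 ∈ N0, n = w * n0 := by
  rw [k.bk.N1_eq (h.cardW l)] at hn
  exact mem_sup_comm (fun a ha b hb => k.pb.comm (k.pb.N1N (k.WN ha)) (k.pb.N1N (k.pb.N01 hb))) hn

/-- `N₁ ∩ C(K) = N₀` -/
theorem mem_N0 [Finite G] (h : TK S B Q V Xn ZJ B0 X M0 Y0 L W Z C A z) (k : BZ B B0 X M0 Y0 W Z l K N N1 N0) {n : G}
    (hn : n ∈ N1) (hc : ∀ g ∈ K, g * n = n * g) : n ∈ N0 := by
  obtain ⟨w, hw, n0, hn0, rfl⟩ := k.split1 h hn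
  have h1 : w = 1 := k.W_cen hw fun g hg => by
    have h2 := hc g hg
    have h3 := k.pb.N0c g hg n0 hn0
    have h4 : g * w * n0 = w * g * n0 := by
      calc g * w * n0 = g * (w * n0) := by group
        _ = (w * n0) * g := h2
        _ = w * (n0 * g) := by group
        _ = w * (g * n0) := by rw [h3]
        _ = _ := by group
    exact mul_right_cancel h4
  rw [h1, one_mul]
  exact hn0

theorem ch_le [Finite G] (k : BZ B B0 X M0 Y0 W Z l K N N1 N0) : ⁅⁅N, K⁆, B0⁆ ≤ N1 := by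
  rw [Subgroup.commutator_le]
  intro v hv b hb
  have h1 := k.pb.quad b hb v (k.pb.VN hv)
  have e : ⁅v, b⁆ = (b * v * b⁻¹ * v⁻¹)⁻¹ := by rw [commutatorElement_def]; group
  rw [e]
  exact inv_mem h1

/-- the elements of `B` -/
theorem gdB [Finite G] (h : TK S B Q V Xn ZJ B0 X M0 Y0 L W Z C A z) (h2 : ∃ m, m ≠ l) {b : G} (hb : b ∈ B) :
    Gd B0 M0 Z l b := by
  obtain ⟨m, hm⟩ := h2
  exact ⟨h.BB0 hb, h.SM (h.BS hb), m, hm, fun p _ x hx => h.cZJ hb (h.fr.Z_le p hx)⟩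

/-- an element of `B` centralising the line `W l` centralises `[[N, K], B₀]` -/
theorem cen_ch [Finite G] (h : TK S B Q V Xn ZJ B0 X M0 Y0 L W Z C A z) (h2 : ∃ m, m ≠ l)
    (k : BZ B B0 X M0 Y0 W Z l K N N1 N0) {b : G}
    (hb : b ∈ B) (hbW : ∀ w ∈ W l, b * w = w * b) : ∀ x ∈ (⁅⁅N, K⁆, B0⁆ : Subgroup G), b * x = x * b := by
  obtain ⟨hu, -, hc⟩ := uniG h k (gdB h h2 hb)
  set V' : Subgroup G := ⁅N, K⁆ with hV'
  have hVB : V' ≤ B0 := k.VB0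
  have hVN : V' ≤ N := k.pb.VN
  have hbB0 := h.BB0 hb
  have hbX := h.BX' hb
  have hcX : ∀ a ∈ V', ∀ x ∈ X, a * x = x * a := fun a ha x hx => h.cX (hVB ha) hx
  -- `b` acts on `V' X`
  have hM : ∀ v ∈ V', ∃ u ∈ V', ∃ x ∈ X, b * v * b⁻¹ = u * x := fun v hv =>
    mem_sup_comm hcX (hu (cj_mem hv))
  have hXK : ∀ x ∈ X ⊓ centralizer (K : Set G), b * x * b⁻¹ ∈ X ⊓ centralizer (K : Set G) := fun x hx =>
    (mem_normalizer_iff.1 (k.BX hb) x).1 hx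
  -- (F3)
  have F3 : ∀ y ∈ N1, b * y * b⁻¹ * y⁻¹ ∈ X ⊓ centralizer (K : Set G) := by
    intro y hy
    obtain ⟨w, hw, n, hn, rfl⟩ := k.split1 h hy
    have hnX := k.N0X h hn
    have h1 := mul_mem (hXK n hnX) (inv_mem hnX)
    have e : b * (w * n) * b⁻¹ * (w * n)⁻¹ = b * n * b⁻¹ * n⁻¹ := by
      have h2 : w * (b * n * b⁻¹ * n⁻¹) = (b * n * b⁻¹ * n⁻¹) * w := h.Xc (h.WX l hw) h1.1
      calc b * (w * n) * b⁻¹ * (w * n)⁻¹ = (b * w) * n * b⁻¹ * n⁻¹ * w⁻¹ := by group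
        _ = (w * b) * n * b⁻¹ * n⁻¹ * w⁻¹ := by rw [hbW w hw]
        _ = w * (b * n * b⁻¹ * n⁻¹) * w⁻¹ := by group
        _ = (b * n * b⁻¹ * n⁻¹) * w * w⁻¹ := by rw [h2]
        _ = _ := by group
    rw [e]
    exact h1
  -- `[a, u x] = [a, u]`
  have F5 : ∀ a ∈ B0, ∀ u, ∀ x ∈ X, a * (u * x) * a⁻¹ * (u * x)⁻¹ = a * u * a⁻¹ * u⁻¹ := by
    intro a ha u x hx
    have h1 := h.cX ha hx
    calc a * (u * x) * a⁻¹ * (u * x)⁻¹ = a * u * (x * a⁻¹) * x⁻¹ * u⁻¹ := by group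
      _ = a * u * (a⁻¹ * (a * x) * a⁻¹) * x⁻¹ * u⁻¹ := by group
      _ = a * u * (a⁻¹ * (x * a) * a⁻¹) * x⁻¹ * u⁻¹ := by rw [h1]
      _ = _ := by group
  -- the element `y`
  have hXV : ¬ V' ⊔ X ≤ X := by
    intro hle
    obtain ⟨v, hv, hv1⟩ := k.pb.exists_v
    obtain ⟨u, hu', n, hn, rfl⟩ := k.pb.exists_V hv
    exact hv1 (mul_mem ((k.N1X h (hVN hu')).2 (hle (mem_sup_left hu'))) (k.pb.N01 hn))
  have hX2 : IsPGroup 2 B0 := k.pb.Bp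
  have hle0 : V' ⊔ X ≤ B0 := sup_le hVB h.XB0
  have hPX : zpowers b ≤ normalizer (X : Set G) := by rw [zpowers_le]; exact hbX
  have hPM : zpowers b ≤ normalizer ((V' ⊔ X : Subgroup G) : Set G) := by
    rw [zpowers_le]
    refine mem_normalizer_of_cj_le ?_
    rw [show ChoiceBase.cj b (V' ⊔ X) = ChoiceBase.cj b V' ⊔ ChoiceBase.cj b X from Subgroup.map_sup _ _ _,
      cj_eq_of_mem_normalizer hbX]
    exact sup_le hu le_sup_right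
  have hMX : V' ⊔ X ≤ normalizer (X : Set G) := sup_le (fun v hv => mem_normalizer_of_cj_le (by
    rintro _ ⟨x, hx, rfl⟩
    show v * x * v⁻¹ ∈ X
    rw [hcX v hv x hx, mul_inv_cancel_right]
    exact hx)) le_normalizer
  obtain ⟨y0, hy0, hy0X, hfix⟩ := exists_fix_mod (h.twoB.to_le (by rw [zpowers_le]; exact hb)) hPX hPM
    (hX2.to_le hle0) hMX hXV
  obtain ⟨y, hy, x0, hx0, rfl⟩ := mem_sup_comm hcX hy0
  have hyX : y ∉ X := fun h1 => hy0X (mul_mem h1 hx0)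
  have hyN1 : y ∉ N1 := fun h1 => hyX ((k.N1X h (hVN hy)).1 h1)
  -- `b y b⁻¹ = y x₁`
  obtain ⟨x1, hx1, hyb⟩ : ∃ x1 ∈ X, b * y * b⁻¹ = y * x1 := by
    have h1 := hfix b (mem_zpowers b)
    have hx0' : b * x0 * b⁻¹ ∈ X := (mem_normalizer_iff.1 hbX x0).1 hx0
    refine ⟨y⁻¹ * (b * (y * x0) * b⁻¹ * (y * x0)⁻¹) * y * (x0 * (b * x0 * b⁻¹)⁻¹), ?_, ?_⟩
    · refine mul_mem ?_ (mul_mem hx0 (inv_mem hx0'))
      have h2 := hcX y⁻¹ (inv_mem hy) _ h1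
      have e : y⁻¹ * (b * (y * x0) * b⁻¹ * (y * x0)⁻¹) * y = b * (y * x0) * b⁻¹ * (y * x0)⁻¹ := by
        rw [h2]; group
      rw [e]; exact h1
    · have h2 := hcX y hy x0 hx0
      calc b * y * b⁻¹ = b * (y * x0) * b⁻¹ * (y * x0)⁻¹ * (y * x0) * (b * x0 * b⁻¹)⁻¹ := by group
        _ = _ := by group
  -- (i) `b a b⁻¹ ∈ a C(V')`
  have hpi : ∀ a ∈ B0, ∀ v ∈ V', (b * a * b⁻¹ * a⁻¹) * v = v * (b * a * b⁻¹ * a⁻¹) := by
    intro a ha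
    have ha' : b * a * b⁻¹ ∈ B0 := (mem_normalizer_iff.1 hbB0 a).1 ha
    have e1 : b * (a * y * a⁻¹ * y⁻¹) * b⁻¹ = (b * a * b⁻¹) * y * (b * a * b⁻¹)⁻¹ * y⁻¹ := by
      rw [← F5 _ ha' y x1 hx1, ← hyb]; group
    have h1 := F3 _ (k.pb.quad a ha y (hVN hy))
    rw [e1] at h1
    -- `[a' a⁻¹, y] ∈ X_K`
    have ha'' : b * a * b⁻¹ * a⁻¹ ∈ B0 := mul_mem ha' (inv_mem ha)
    have e2 : (b * a * b⁻¹ * a⁻¹) * y * (b * a * b⁻¹ * a⁻¹)⁻¹ * y⁻¹ =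
        (b * a * b⁻¹) * y * (b * a * b⁻¹)⁻¹ * y⁻¹ * (a * y * a⁻¹ * y⁻¹)⁻¹ := by
      have hq : a⁻¹ * y * a⁻¹⁻¹ * y⁻¹ ∈ N1 := k.pb.quad a⁻¹ (inv_mem ha) y (hVN hy)
      have h3 : a * (a⁻¹ * y * a⁻¹⁻¹ * y⁻¹) = (a⁻¹ * y * a⁻¹⁻¹ * y⁻¹) * a := k.pb.N1c a ha _ hq
      have h4 : (b * a * b⁻¹) * (a⁻¹ * y * a⁻¹⁻¹ * y⁻¹) = (a⁻¹ * y * a⁻¹⁻¹ * y⁻¹) * (b * a * b⁻¹) :=
        k.pb.N1c _ ha' _ hq
      have h5 : a⁻¹ * y * a⁻¹⁻¹ * y⁻¹ = (a * y * a⁻¹ * y⁻¹)⁻¹ := by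
        have h6 : a * (a⁻¹ * y * a⁻¹⁻¹ * y⁻¹) * a⁻¹ = a⁻¹ * y * a⁻¹⁻¹ * y⁻¹ := by rw [h3]; group
        rw [← h6]; group
      rw [← h5]
      have hcm : (a⁻¹ * y * a⁻¹⁻¹ * y⁻¹) * ((b * a * b⁻¹) * y * (b * a * b⁻¹)⁻¹ * y⁻¹) =
          ((b * a * b⁻¹) * y * (b * a * b⁻¹)⁻¹ * y⁻¹) * (a⁻¹ * y * a⁻¹⁻¹ * y⁻¹) :=
        k.pb.comm (k.pb.N1N hq) (k.pb.N1N (k.pb.quad _ ha' y (hVN hy)))
      rw [← hcm]
      calc (b * a * b⁻¹ * a⁻¹) * y * (b * a * b⁻¹ * a⁻¹)⁻¹ * y⁻¹ =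
          ((b * a * b⁻¹) * (a⁻¹ * y * a⁻¹⁻¹ * y⁻¹)) * y * (b * a * b⁻¹)⁻¹ * y⁻¹ := by group
        _ = _ := by rw [h4]; group
    have h2 : (b * a * b⁻¹ * a⁻¹) * y * (b * a * b⁻¹ * a⁻¹)⁻¹ * y⁻¹ ∈ N0 := by
      refine k.mem_N0 h (k.pb.quad _ ha'' y (hVN hy)) fun g hg => ?_
      rw [e2]
      exact mem_centralizer_iff.1 h1.2 g hg
    by_contra hcon
    push Not at hcon
    obtain ⟨v, hv, hne⟩ := hcon
    exact hyN1 (k.pb.cent _ ha'' ⟨v, hVN hv, hne⟩ y (hVN hy) h2)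
  -- (ii) `b v b⁻¹ ∈ v X`
  have hvX : ∀ v ∈ V', ∃ x ∈ X, b * v * b⁻¹ = v * x := by
    intro v hv
    obtain ⟨u, hu1, x, hx, e⟩ := hM v hv
    obtain ⟨a, ha, w, hw, hne⟩ := k.pb.exists_b
    have hne' : ∃ v ∈ N, (a : G) * v ≠ v * a := ⟨w, hw, hne⟩
    have ha' : b * a * b⁻¹ ∈ B0 := (mem_normalizer_iff.1 hbB0 a).1 ha
    have hcon := k.pb.cent a ha hne' (u * v⁻¹) (mul_mem (hVN hu1) (inv_mem (hVN hv))) ?_
    · refine ⟨u * v⁻¹ * x, mul_mem ((k.N1X h (mul_mem (hVN hu1) (inv_mem (hVN hv)))).1 hcon) hx, ?_⟩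
      rw [e]
      have h1 : u * v⁻¹ * x = x * (u * v⁻¹) := hcX _ (mul_mem hu1 (inv_mem hv)) x hx
      have h2 : v * (u * v⁻¹) = u := by
        rw [← mul_assoc, k.pb.comm (hVN hv) (hVN hu1), mul_inv_cancel_right]
      calc u * x = (v * (u * v⁻¹)) * x := by rw [h2]
        _ = _ := by group
    · -- `[a, u v⁻¹] ∈ N₀`
      have h1 := F3 _ (k.pb.quad a ha v (hVN hv))
      have e1 : b * (a * v * a⁻¹ * v⁻¹) * b⁻¹ = a * u * a⁻¹ * u⁻¹ := by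
        have h3 : b * (a * v * a⁻¹ * v⁻¹) * b⁻¹ = (b * a * b⁻¹) * (u * x) * (b * a * b⁻¹)⁻¹ * (u * x)⁻¹ := by
          rw [← e]; group
        rw [h3, F5 _ ha' u x hx]
        have h4 := hpi a ha (a * u * a⁻¹) (by
          have := (mem_normalizer_iff.1 (k.pb.LV (k.pb.BL ha)) u).1 hu1
          exact this)
        have h5 : b * a * b⁻¹ * u * (b * a * b⁻¹)⁻¹ = a * u * a⁻¹ := by
          calc b * a * b⁻¹ * u * (b * a * b⁻¹)⁻¹ = (b * a * b⁻¹ * a⁻¹) * (a * u * a⁻¹) * (b * a * b⁻¹ * a⁻¹)⁻¹ := by group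
            _ = (a * u * a⁻¹) * (b * a * b⁻¹ * a⁻¹) * (b * a * b⁻¹ * a⁻¹)⁻¹ := by rw [h4]
            _ = _ := by group
        rw [h5]
      rw [e1] at h1
      have e2 : a * (u * v⁻¹) * a⁻¹ * (u * v⁻¹)⁻¹ = a * u * a⁻¹ * u⁻¹ * (a * v * a⁻¹ * v⁻¹)⁻¹ := by
        have hav : a * v⁻¹ * a⁻¹ ∈ N := k.pb.Nn a (k.pb.BL ha) _ (inv_mem (hVN hv))
        have h3 : (a * v⁻¹ * a⁻¹) * (v * u⁻¹) = (v * u⁻¹) * (a * v⁻¹ * a⁻¹) :=
          k.pb.comm hav (mul_mem (hVN hv) (inv_mem (hVN hu1)))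
        have h4 : v * u⁻¹ = u⁻¹ * v := k.pb.comm (hVN hv) (inv_mem (hVN hu1))
        calc a * (u * v⁻¹) * a⁻¹ * (u * v⁻¹)⁻¹ = (a * u * a⁻¹) * ((a * v⁻¹ * a⁻¹) * (v * u⁻¹)) := by group
          _ = (a * u * a⁻¹) * ((v * u⁻¹) * (a * v⁻¹ * a⁻¹)) := by rw [h3]
          _ = (a * u * a⁻¹) * ((u⁻¹ * v) * (a * v⁻¹ * a⁻¹)) := by rw [h4]
          _ = _ := by group
      refine k.mem_N0 h (k.pb.quad a ha _ (mul_mem (hVN hu1) (inv_mem (hVN hv)))) fun g hg => ?_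
      rw [e2]
      exact mem_centralizer_iff.1 h1.2 g hg
  -- (iii)
  have hle : (⁅V', B0⁆ : Subgroup G) ≤ centralizer {b} := by
    rw [Subgroup.commutator_le]
    intro v hv a ha
    obtain ⟨x, hx, e⟩ := hvX v hv
    have ha' : b * a * b⁻¹ ∈ B0 := (mem_normalizer_iff.1 hbB0 a).1 ha
    have h1 : b * (a * v * a⁻¹ * v⁻¹) * b⁻¹ = a * v * a⁻¹ * v⁻¹ := by
      have h3 : b * (a * v * a⁻¹ * v⁻¹) * b⁻¹ = (b * a * b⁻¹) * (v * x) * (b * a * b⁻¹)⁻¹ * (v * x)⁻¹ := by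
        rw [← e]; group
      rw [h3, F5 _ ha' v x hx]
      have h4 := hpi a ha (a * v * a⁻¹) ((mem_normalizer_iff.1 (k.pb.LV (k.pb.BL ha)) v).1 hv)
      have h5 : b * a * b⁻¹ * v * (b * a * b⁻¹)⁻¹ = a * v * a⁻¹ := by
        calc b * a * b⁻¹ * v * (b * a * b⁻¹)⁻¹ = (b * a * b⁻¹ * a⁻¹) * (a * v * a⁻¹) * (b * a * b⁻¹ * a⁻¹)⁻¹ := by group
          _ = (a * v * a⁻¹) * (b * a * b⁻¹ * a⁻¹) * (b * a * b⁻¹ * a⁻¹)⁻¹ := by rw [h4]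
          _ = _ := by group
      rw [h5]
    have h2 : a * v * a⁻¹ * v⁻¹ ∈ centralizer ({b} : Set G) := by
      rw [mem_centralizer_singleton_iff]
      have h3 := congrArg (fun y => y * b) h1
      simpa [mul_assoc] using h3.symm
    have e2 : ⁅v, a⁆ = (a * v * a⁻¹ * v⁻¹)⁻¹ := by rw [commutatorElement_def]; group
    rw [e2]
    exact inv_mem h2
  intro x hx
  exact (mem_centralizer_singleton_iff.1 (hle hx)).symm

/-- **(SPLIT)** -/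
theorem ch_cen [Finite G] [Finite ι] (h : TK S B Q V Xn ZJ B0 X M0 Y0 L W Z C A z) (h2 : ∃ m, m ≠ l)
    (k : BZ B B0 X M0 Y0 W Z l K N N1 N0) : ⁅⁅N, K⁆, B0⁆ ⊓ centralizer (K : Set G) = ⊥ := by
  by_contra hne
  set D : Subgroup G := ⁅⁅N, K⁆, B0⁆ ⊓ (X ⊓ centralizer (K : Set G)) with hD
  have hDX : (⁅⁅N, K⁆, B0⁆ : Subgroup G) ≤ X := fun x hx => (k.N1X h (k.pb.N1N (k.ch_le hx))).1 (k.ch_le hx)
  have hDne : D ≠ ⊥ := fun e => hne (by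
    rw [eq_bot_iff, ← e]
    exact le_inf inf_le_left (le_inf (inf_le_left.trans hDX) inf_le_right))
  have hDB : B ≤ normalizer (D : Set G) := fun b hb => by
    rw [mem_normalizer_iff_cj, hD, cj_inf, chG h k (gdB h h2 hb), cj_eq_of_mem_normalizer (k.BX hb)]
  have hD2 : IsPGroup 2 D := h.twoB.to_le ((inf_le_left.trans hDX).trans (h.XB0.trans h.B0B))
  have h5 := PLocal.OffenderStep.inf_centralizer_ne_bot D B hD2 h.twoB hDB hDne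
  obtain ⟨⟨c, hc⟩, hc1⟩ := (Subgroup.ne_bot_iff_exists_ne_one).1 h5
  obtain ⟨⟨hcc, hcX, hcK⟩, hcB⟩ := mem_inf.1 hc
  replace hc1 : c ≠ 1 := fun e => hc1 (Subtype.ext e)
  have hcJ : c ∈ ZJ := h.mem_ZJ_of hcX fun b hb => mem_centralizer_iff.1 hcB b hb
  have h1 : ¬ ∀ i, c ∈ C i := fun hall => hc1 (h.fr.C0 c (h.fr.ZJV hcJ) hall)
  push Not at h1
  obtain ⟨p, hp⟩ := h1
  obtain ⟨w, hw, d, hd, hdJ, ec⟩ := h.fr.split_ZJ p hcJ
  have hw1 : w ≠ 1 := fun e => hp (by rw [ec, e, one_mul]; exact hd)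
  have hpl : p ≠ l := by
    rintro rfl
    refine hw1 (k.W_cen (h.ZW p hw) fun g hg => ?_)
    have h2 : d ∈ centralizer (K : Set G) := h.mem_of_C (H := centralizer (K : Set G)) (fun q hq => fun x hx =>
      mem_centralizer_iff.2 fun g hg => k.cZ q hq x hx g hg) hdJ hd
    have h3 : w = c * d⁻¹ := by rw [ec]; group
    have h4 : w ∈ centralizer (K : Set G) := by rw [h3]; exact mul_mem hcK (inv_mem h2)
    exact mem_centralizer_iff.1 h4 g hg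
  -- the block over `W p`
  obtain ⟨s, hs, hsW⟩ := h.tr l p
  have kp := k.cj h hs hsW
  obtain ⟨t, ht, htB, htW, htf⟩ := kp.tor
  -- `t` normalises `[[N, K], B₀]`
  have htn : ChoiceBase.cj t ⁅⁅N, K⁆, B0⁆ = ⁅⁅N, K⁆, B0⁆ :=
    chG h k ⟨htB, kp.KM ht, p, hpl, fun q hq x hx => kp.cZ q hq x hx t ht⟩
  have hdK : ∀ g ∈ ChoiceBase.cj s K, g * d = d * g := by
    have h2 : d ∈ centralizer (ChoiceBase.cj s K : Set G) :=
      h.mem_of_C (H := centralizer (ChoiceBase.cj s K : Set G)) (fun q hq => fun x hx =>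
        mem_centralizer_iff.2 fun g hg => kp.cZ q hq x hx g hg) hdJ hd
    exact fun g hg => mem_centralizer_iff.1 h2 g hg
  -- `w₁ = [t, w]`
  have hwW := h.ZW p hw
  have hmem : ∀ {x : G}, x ∈ (⁅⁅N, K⁆, B0⁆ : Subgroup G) → t * x * t⁻¹ ∈ (⁅⁅N, K⁆, B0⁆ : Subgroup G) := fun {x} hx => by
    have h3 := cj_mem (g := t) hx
    rwa [htn] at h3
  have hw1c : t * w * t⁻¹ * w⁻¹ ∈ (⁅⁅N, K⁆, B0⁆ : Subgroup G) := by
    have h2 := mul_mem (hmem hcc) (inv_mem hcc)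
    have h3 := hdK t ht
    have e : t * c * t⁻¹ * c⁻¹ = t * w * t⁻¹ * w⁻¹ := by
      rw [ec]
      calc t * (w * d) * t⁻¹ * (w * d)⁻¹ = t * w * (t⁻¹ * (t * d) * t⁻¹) * d⁻¹ * w⁻¹ := by group
        _ = t * w * (t⁻¹ * (d * t) * t⁻¹) * d⁻¹ * w⁻¹ := by rw [h3]
        _ = _ := by group
    rwa [e] at h2
  set w1 := t * w * t⁻¹ * w⁻¹ with hw1d
  have hw1W : w1 ∈ W p := mul_mem (htW w hwW) (inv_mem hwW)
  have hw11 : w1 ≠ 1 := fun e => hw1 (htf w hwW (mul_inv_eq_one.1 e))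
  -- the transvection
  obtain ⟨b, hb, hbC, u, hu, hbu⟩ := h.exists_t p
  have hbl : ∀ x ∈ W l, b * x = x * b := fun x hx => hbC x (h.fr.WjC p l hpl hx)
  have hcen := k.cen_ch h h2 hb hbl
  have hne' : ¬ ∀ u ∈ W p, b * u = u * b := fun h2 => hbu (h2 u hu)
  have hZ1 : w1 ∈ Z p := (h.fr.blk p).mem_Z hb hne' hw1W (hcen w1 hw1c)
  have hZ2 : t * w1 * t⁻¹ ∈ Z p := (h.fr.blk p).mem_Z hb hne' (htW w1 hw1W) (hcen _ (hmem hw1c))
  have hne2 : t * w1 * t⁻¹ ≠ 1 := fun e => hw11 (by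
    have h3 : w1 = t⁻¹ * (t * w1 * t⁻¹) * t := by group
    rw [h3, e]; group)
  exact hw11 (htf w1 hw1W (h.Z_two p hZ2 hZ1 hne2 hw11))

/-- `[[N, K], B₀] = W l` -/
theorem ch_W [Finite G] [Finite ι] (h : TK S B Q V Xn ZJ B0 X M0 Y0 L W Z C A z) (h2 : ∃ m, m ≠ l)
    (k : BZ B B0 X M0 Y0 W Z l K N N1 N0) : ⁅⁅N, K⁆, B0⁆ = W l := by
  refine le_antisymm ?_ k.cc
  intro y hy
  obtain ⟨w, hw, n, hn, rfl⟩ := k.split1 h (k.ch_le hy)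
  have h1 : n ∈ ⁅⁅N, K⁆, B0⁆ ⊓ centralizer (K : Set G) := by
    refine mem_inf.2 ⟨?_, (k.N0X h hn).2⟩
    have h2 := mul_mem (inv_mem (k.cc hw)) hy
    rwa [inv_mul_cancel_left] at h2
  rw [k.ch_cen h h2, mem_bot] at h1
  rw [h1, mul_one]
  exact hw

/-- **`g` normalises `W l`.** -/
theorem cjW [Finite G] [Finite ι] (h : TK S B Q V Xn ZJ B0 X M0 Y0 L W Z C A z)
    (k : BZ B B0 X M0 Y0 W Z l K N N1 N0) {g : G} (hg : Gd B0 M0 Z l g) : ChoiceBase.cj g (W l) = W l := by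
  have h2 : ∃ m, m ≠ l := by
    obtain ⟨m, hm, -⟩ := hg.cz
    exact ⟨m, hm⟩
  rw [← k.ch_W h h2]
  exact chG h k hg

end BZ

end Cfsg.Agent.Omega.OM.LowV.Cross
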