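import Cfsg.Agent.Omega.OM.Lev.Low.YK
import Cfsg.Agent.Omega.OM.Lev.Low.Half
import Cfsg.Agent.Omega.OM.Lev.Low.NoTwoP
import Cfsg.Agent.Omega.OM.Lev.Low.BlOf
import Cfsg.Agent.Omega.OM.SwapV.Lv.Pair

/-!
# The instance of `Set5` for the blocks in the support of `z i`, over the frame `LnV`

`Inp S V Q n L W Z C A T Y j K E N c` : the frame `LnV` at the stage `n` (`q = 2`), `B ≤ T`, `Y` of the stage `j ≤ n`
with its blocks. `σ` : a set of blocks which centralise some `Z j'`.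

* `Inp.exists_set5` : `Set5` for `P = L i`, `Γ = ⟨L i, K l | l ∈ σ⟩`, `U = ⟨[E l, K l]^Γ⟩`.
-/

set_option autoImplicit false
set_option linter.unusedSectionVars false

namespace Cfsg.Agent.Omega.OM.LowV

open Subgroup Cfsg Cfsg.Agent.ZN.ChoiceBase Cfsg.Agent.ZN.ChoiceSit
open Cfsg.Agent.ZN (jj zj bau zc zl o2)
open Cfsg.Agent.Omega.LemmaK (Block WeakNormal)
open Cfsg.Agent.Omega.SQ1.Bau (elem_comm elem_sq)
open Cfsg.Agent.Omega.OM.SwapL (ZL)
open Cfsg.Agent.Omega.OM.SwapV.Lv (LnV)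
open Cfsg.Agent.Omega.OM.Lev.Low
open Cfsg.Agent.Omega.OM.LevB (lb zc_B nxt_lev isLev_T bz_lev)
open Cfsg.Agent.Omega.NO3S.Level (lev lev_mono lev_isLev Lev BO nxt lev_le_succ lev_le)
open Cfsg.Agent.Omega.NO3S.Level.Claim (Fm Bl)
open Cfsg.Agent.Omega.OM.Lev.Low.Five (Set5)
open scoped commutatorElement

universe u

variable {G : Type u} [Group G] [Finite G] {ι Λ : Type} {S : Sylow 2 G} {V Q : Subgroup G} {n : ℕ}
  {L W Z C A : ι → Subgroup G} {T Y : Subgroup G} {j : ℕ} {K E N c : Λ → Subgroup G}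

/-- The input. -/
structure Inp {ι Λ : Type} (S : Sylow 2 G) (V Q : Subgroup G) (n : ℕ) (L W Z C A : ι → Subgroup G) (T Y : Subgroup G)
    (j : ℕ) (K E N c : Λ → Subgroup G) : Prop where
  ln : LnV S V Q n L W Z C A
  two : ∀ i : ι, ∃ j, j ≠ i
  syl : Syl T Y
  BT : SwapL.BL (S : Subgroup G) n ≤ T
  jn : j ≤ n
  char2 : Y ⊓ centralizer (o2 Y : Set G) ≤ o2 Y
  low : ∀ i < j, lev (S : Subgroup G) i ≤ o2 Y
  yk : YK T Y (zc (lev (S : Subgroup G) j)) (LevB.BL (S : Subgroup G) j) K E N c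

namespace Inp

variable (h : Inp S V Q n L W Z C A T Y j K E N c)
include h

theorem BjB : LevB.BL (S : Subgroup G) j ≤ SwapL.BL (S : Subgroup G) n :=
  BL_mono (S : Subgroup G) (h.jn.trans (Nat.le_succ n))

theorem BjT : LevB.BL (S : Subgroup G) j ≤ T := h.BjB.trans h.BT

theorem BjL (i : ι) : LevB.BL (S : Subgroup G) j ≤ L i := h.BjB.trans (h.ln.fr.blk i).BL

theorem LQ (i : ι) : L i ≤ normalizer (Q : Set G) := fun l hl => mem_normalizer_of_cj_le (by
  rintro _ ⟨x, hx, rfl⟩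
  exact h.ln.fr.LQ i l hl x hx)

theorem levQ {m : ℕ} (hm : m ≤ n) : lev (S : Subgroup G) m ≤ Q := (lev_mono _ hm).trans h.ln.levQ

theorem LK (i : ι) {m : ℕ} (hm : m ≤ n) : L i ≤ normalizer (lev (S : Subgroup G) m : Set G) :=
  (h.LQ i).trans ((lev_isLev (S : Subgroup G) m).norm _ (h.levQ hm) (h.ln.fr.QB.trans (SwapL.lb S n).BS))

theorem LX (i : ι) : L i ≤ normalizer (zc (lev (S : Subgroup G) j) : Set G) :=
  (h.LK i h.jn).trans (NO3S.Level.normalizer_le_zc _)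

theorem QL (i : ι) : Q ≤ L i := h.ln.fr.QB.trans (h.ln.fr.blk i).BL

theorem QT : Q ≤ T := h.ln.fr.QB.trans h.BT

theorem TBj : T ≤ normalizer (LevB.BL (S : Subgroup G) j : Set G) := (lb S j).two_le h.syl.2.1 h.BjT

theorem elX : IsElementaryAbelian 2 (zc (lev (S : Subgroup G) j)) := NO3S.OneLine.zc_elem _

theorem wn : WeakNormal 2 (LevB.BL (S : Subgroup G) j) := fun _ hR hBR => (lb S j).two_le hR hBR

theorem V_sq (l : Λ) : ∀ v ∈ ⁅E l, K l⁆, v ^ 2 = 1 := fun v hv => by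
  obtain ⟨N1, N0, r, hp⟩ := h.yk.pb l
  exact elem_sq hp.el v (hp.VN hv)

theorem V_act (l : Λ) {k x : G} (hk : k ∈ K l) (hx : x ∈ zc (lev (S : Subgroup G) j)) :
    k * x * k⁻¹ * x⁻¹ ∈ ⁅E l, K l⁆ := by
  obtain ⟨N1, N0, r, hp⟩ := h.yk.pb l
  exact hp.act_V hk (by rw [zc_B]; exact hx)

theorem V_cent (l : Λ) : ⁅E l, K l⁆ ≤ centralizer (zc (lev (S : Subgroup G) j) : Set G) := by
  obtain ⟨N1, N0, r, hp⟩ := h.yk.pb l
  exact (hp.VN.trans hp.NB).trans inf_le_right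

/-- the centraliser of `K l` in `X` -/
theorem mem_cK {l : Λ} {x : G} (hx : x ∈ zc (lev (S : Subgroup G) j)) :
    x ∈ N l ↔ x ∈ centralizer (K l : Set G) := by
  rw [h.yk.memN l x hx, mem_centralizer_iff]
  exact Iff.rfl

/-- **The instance of `Set5`.** -/
theorem exists_set5 (i : ι) {i' : ι} (hi : i' ≠ i) (σ : Λ → Prop) (hσ : ∀ l, σ l → Z i' ≤ N l)
    (htr : ∀ l m : {l // σ l}, ∃ g ∈ L i, cj g ⁅E l, K l⁆ = ⁅E m, K m⁆) :
    ∃ AA, Set5 T (UU (L i ⊔ ⨆ l : {l // σ l}, K l) fun l : {l // σ l} => ⁅E l, K l⁆)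
      (L i ⊔ ⨆ l : {l // σ l}, K l) (LevB.BL (S : Subgroup G) j)
      (UU (L i ⊔ ⨆ l : {l // σ l}, K l) (fun l : {l // σ l} => ⁅E l, K l⁆) ⊓ zc (lev (S : Subgroup G) j)) (L i) AA
      (fun l : {l // σ l} => K l) fun l : {l // σ l} => ⁅E l, K l⁆ := by
  set Γ : Subgroup G := L i ⊔ ⨆ l : {l // σ l}, K l with hΓ
  set V' : {l // σ l} → Subgroup G := fun l => ⁅E l, K l⁆ with hV'
  set U := UU Γ V' with hU
  have hT2 := h.syl.2.1
  have hb := lb S j
  have hle : lev (S : Subgroup G) j ≤ T := hb.KB.trans h.BjT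
  have hLΓ : L i ≤ Γ := le_sup_left
  have hKΓ : ∀ l : {l // σ l}, K l ≤ Γ := fun l => (le_iSup (fun l : {l // σ l} => K l) l).trans le_sup_right
  have hUn : Γ ≤ normalizer (U : Set G) := UU_norm
  -- the common part
  have fin : ∀ AA, IsElementaryAbelian 2 U →
      Fm T U Γ (LevB.BL (S : Subgroup G) j) (U ⊓ zc (lev (S : Subgroup G) j)) AA →
      (∀ A ∈ AA, ∀ g ∈ L i, cj g A ∈ AA) →
      Set5 T U Γ (LevB.BL (S : Subgroup G) j) (U ⊓ zc (lev (S : Subgroup G) j)) (L i) AA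
        (fun l : {l // σ l} => K l) V' := by
    intro AA h2 hfm hPA
    refine ⟨hfm, fun l => ?_, h2, h.BjL i, hLΓ.trans hUn, fun g hg => ?_, hPA, htr, fun C hC hPC hKC => ?_⟩
    · obtain ⟨N1, N0, r, hp⟩ := h.yk.pb l
      exact BlOf.bl_V hp hfm (by rw [zc_B]) (le_UU (V := V') l) (hKΓ l) ((hKΓ l).trans hUn)
    · rw [mem_normalizer_iff_cj, cj_inf, cj_eq_of_mem_normalizer (hUn (hLΓ hg)),
        cj_eq_of_mem_normalizer (h.LX i hg)]
    · exact UU_le hC (sup_le hPC (iSup_le hKC))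
  -- stages
  have hj := h.jn
  have hlow := h.low
  have hBjT := h.BjT
  rcases Nat.eq_zero_or_pos j with h0 | hpos
  · -- stage `-1`
    have hjj : jj T = jj (S : Subgroup G) := MinSimple.EmptyTI.jj_eq S hT2 (by rw [h0] at hle; exact hle)
    have hzz : zc (lev (S : Subgroup G) j) = zj T := by
      rw [h0]
      show zc (jj (S : Subgroup G)) = zj T
      rw [← hjj, zc_jj]
    have hbau : bau T = LevB.BL (S : Subgroup G) j := by
      rw [← hb.inf_eq hT2 hBjT, hzz]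
      rfl
    -- the local group
    set H' : Subgroup G := normalizer (Z i' : Set G) with hH'
    have hZ1 : Z i' ≠ ⊥ := by
      intro e
      have h1 := h.ln.fr.cardZ i'
      rw [e, Subgroup.card_bot] at h1
      omega
    have hZ2 : IsPGroup 2 (Z i') := (lb S (n + 1)).Bp.to_le
      (((h.ln.fr.Z_le i').trans (h.ln.fr.ZJV)).trans (h.ln.fr.VQ.trans h.ln.fr.QB))
    have hcG := h.ln.char2.2 (Z i') hZ2 hZ1
    have hc' : H' ⊓ centralizer (o2 H' : Set G) ≤ o2 H' := by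
      rintro x ⟨hx, hxc⟩
      have h2 : (⟨x, hx⟩ : normalizer (Z i' : Set G)) ∈
          centralizer (pCore 2 (normalizer (Z i' : Set G)) : Set (normalizer (Z i' : Set G))) := by
        rw [mem_centralizer_iff]
        intro y hy
        refine Subtype.ext ?_
        exact mem_centralizer_iff.mp hxc (y : G) ⟨y, hy, rfl⟩
      exact ⟨⟨x, hx⟩, hcG h2, rfl⟩
    have hcl : ∀ Q' : Subgroup G, Q' ≤ centralizer (Z i' : Set G) → Q' ≤ H' := fun Q' hQ' =>
      hQ'.trans (centralizer_le_normalizer _)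
    have hZX : Z i' ≤ zc (lev (S : Subgroup G) j) := ((h.ln.fr.Z_le i').trans h.ln.fr.ZJV).trans
      (h.ln.fr.VX.trans ((lev_isLev (S : Subgroup G) j).zc_le_zc (lev_mono _ h.jn) (lev_le _ n)))
    have hKc : ∀ l : {l // σ l}, K l ≤ H' := fun l => hcl _ fun k hk => mem_centralizer_iff.2 fun z hz =>
      ((h.yk.memN l z (hZX hz)).1 (hσ l l.2 hz) k hk).symm
    have hΓH : Γ ≤ H' := by
      refine sup_le (hcl _ fun l hl => mem_centralizer_iff.2 fun z hz => ?_) (iSup_le hKc)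
      exact (h.ln.fr.LC i l hl z (h.ln.fr.Z_le i' hz)
        (h.ln.fr.WjC i i' hi.symm ((h.ln.fr.blk i').ZV hz))).symm
    have hUz : U ≤ zc (o2 H') := UU_le_zc (B₀ := LevB.BL (S : Subgroup G) j) (K := fun l : {l // σ l} => K l)
      (fun l => by
        obtain ⟨N1, N0, r, hp⟩ := h.yk.pb l
        exact hp.block h.wn) hKc hΓH (isPGroup_o2 H') (le_normalizer_o2 H') hc' fun l => h.V_sq l
    have hU2 : IsElementaryAbelian 2 U :=
      PLocal.OffenderStep.isElementaryAbelian_of_comm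
        (fun x hx y hy => (mem_zc.1 (hUz hy)).2.2 x (mem_zc.1 (hUz hx)).1) fun x hx => (mem_zc.1 (hUz hx)).2.1
    have hUX : U ≤ centralizer (zc (lev (S : Subgroup G) j) : Set G) :=
      UU_cent (K := fun l : {l // σ l} => K l) (elem_comm hU2) (fun l => h.V_cent l) (h.LX i) hΓ
        fun l k hk x hx => h.V_act l hk hx
    have hUB : U ≤ LevB.BL (S : Subgroup G) j := by
      have h1 : IsPGroup 2 (LevB.BL (S : Subgroup G) j ⊔ U : Subgroup G) :=
        IsPGroup.to_sup_of_normal_right' hb.Bp ((isPGroup_o2 H').to_le (hUz.trans (zc_le _)))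
          ((h.BjL i).trans (hLΓ.trans hUn))
      have h2 := hb.syl.2.2 (LevB.BL (S : Subgroup G) j ⊔ U) (sup_le hb.Bc hUX) h1 le_sup_left
      rw [← h2]
      exact le_sup_right
    have hUT : U ≤ T := hUB.trans hBjT
    have hfm := BlOf.fm_neg (S := T) (H := Γ) hU2 (by rw [hbau]; exact hUB) hUn
    rw [hbau, ← hzz] at hfm
    refine ⟨_, fin _ hU2 hfm fun A hA g hg => BlOf.famA_cj hA (hUn (hLΓ hg)) ?_ hUT⟩
    have h3 : A ≤ Q := (BlOf.famA_le hA).trans (by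
      rw [hjj]
      exact h.levQ (Nat.zero_le n))
    have h4 := cj_mono g h3
    rw [cj_eq_of_mem_normalizer (h.LQ i hg)] at h4
    exact h4.trans h.QT
  · -- stages `m + 1`
    obtain ⟨m, rfl⟩ := Nat.exists_eq_succ_of_ne_zero hpos.ne'
    have hleT : lev (S : Subgroup G) (m + 1) ≤ T := hle
    have hL := isLev_T S hT2 ((lev_le_succ _ m).trans hleT)
    have hnx := nxt_lev S hT2 hleT
    have hKo := hlow m (Nat.lt_succ_self m)
    have hYK : Y ≤ normalizer (lev (S : Subgroup G) m : Set G) := hL.le_norm_of_o2 hKo (o2_le_syl h.syl)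
    have hΓK : Γ ≤ normalizer (lev (S : Subgroup G) m : Set G) :=
      sup_le (h.LK i ((Nat.le_succ m).trans h.jn)) (iSup_le fun l => (h.yk.KY l).trans hYK)
    have hVz : zl T Y ≤ zc (lev (S : Subgroup G) m) :=
      (MinSimple.VModule.zl_le_zc h.syl.1 hT2 (syl_not_dvd h.syl) h.char2).trans (hL.zc_o2_le hKo (o2_le_syl h.syl))
    have hUz : U ≤ zc (lev (S : Subgroup G) m) := by
      refine UU_le (fun l => ?_) (hΓK.trans (NO3S.Level.normalizer_le_zc _))
      obtain ⟨N1, N0, r, hp⟩ := h.yk.pb l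
      exact hp.VN.trans ((h.yk.EY l).trans hVz)
    have hU2 : IsElementaryAbelian 2 U := PLocal.ThompsonJ.isElementaryAbelian_mono (NO3S.OneLine.zc_elem _) hUz
    have hfm := BlOf.fm_lev (H := Γ) hL hUz hΓK
    rw [hnx, hb.inf_eq hT2 hBjT] at hfm
    refine ⟨_, fin _ hU2 hfm fun A hA g hg => BO.conj hA (h.LK i ((Nat.le_succ m).trans h.jn) hg) ?_⟩
    have h3 : A ≤ Q := by
      have h4 := BO.le_nxt hA
      rw [hnx] at h4
      exact h4.trans (h.levQ h.jn)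
    have h4 := cj_mono g h3
    rw [cj_eq_of_mem_normalizer (h.LQ i hg)] at h4
    exact h4.trans h.QT

end Inp

end Cfsg.Agent.Omega.OM.LowV
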