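import Cfsg.Agent.Omega.OM.LowV.Core

/-!
# TORUS over the frame `LnV`: weak form of UNI

* `weak_of` : a minimal parabolic `R` over `B` of lower stage which moves `Ω₁Z(B)` moves exactly one `Z l`, and some
  `r ∈ R` moves `Z l` to a subgroup of `W l`, not in `Z_J`;
* `exists_weak` : the same without the block.
-/

set_option autoImplicit false
set_option linter.unusedSectionVars false

namespace Cfsg.Agent.Omega.OM.LowV

open Subgroup Cfsg Cfsg.Agent.ZN.ChoiceBase Cfsg.Agent.ZN.ChoiceSit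
open Cfsg.Agent.ZN (jj zj bau zc zl o2)
open Cfsg.Agent.MinSimple.MinParabolic (IsMinPar)
open Cfsg.Agent.Omega.OM.SwapL (ZL BL)
open Cfsg.Agent.Omega.OM.SwapV.Lv (LnV)
open Cfsg.Agent.Omega.NO3S.Level (lev lev_mono lev_isLev Lev lev_le)
open Cfsg.Agent.Omega.OM.Lev.Low

universe u

variable {G : Type u} [Group G] [Finite G]

section bk

variable {ι : Type} {S : Sylow 2 G} {V Q : Subgroup G} {n : ℕ} {L W Z C A : ι → Subgroup G} {R : Subgroup G}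
  {j : ℕ} {K N₁ c : Subgroup G} {τ : G} {l : ι}

/-- `W l ∩ Z_J ≤ Z l` -/
theorem W_inf_ZJ (h : LnV S V Q n L W Z C A) {x : G} (hx : x ∈ W l) (hxJ : x ∈ ZL (S : Subgroup G) n) : x ∈ Z l := by
  obtain ⟨w, hw, c', hc', -, e⟩ := h.fr.split_ZJ l hxJ
  have h1 : c' ∈ W l ⊓ C l := by
    refine mem_inf.2 ⟨?_, hc'⟩
    have e1 : c' = w⁻¹ * x := by rw [e]; group
    rw [e1]
    exact mul_mem (inv_mem (SwapV.Lv.Z_W h l hw)) hx
  rw [h.fr.dir l, mem_bot] at h1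
  rw [e, h1, mul_one]
  exact hw

theorem weak_of (h : Blk S V Q n L W Z C A R j K N₁ c τ l) :
    (∃ r ∈ R, cj r (Z l) ≤ W l ⊓ centralizer (LevB.BL (S : Subgroup G) j : Set G) ∧
      ¬ cj r (Z l) ≤ ZL (S : Subgroup G) n) ∧ ∀ m, m ≠ l → R ≤ centralizer (Z m : Set G) := by
  have hZc : Z l ≤ c := h.cW ▸ SwapV.Lv.Z_W h.ln l
  have hcX : c ≤ zc (lev (S : Subgroup G) j) := h.yb.cX 0
  refine ⟨⟨τ, h.KR h.τK, ?_, fun hle => ?_⟩, fun m hm => ?_⟩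
  · have h1 := cj_mono τ hZc
    rw [h.τc] at h1
    refine le_inf (h1.trans h.cW.le) (h1.trans (hcX.trans ?_))
    rw [← le_centralizer_iff]
    exact (LevB.lb S j).Bc
  · obtain ⟨z, hz, hz1⟩ := SwapV.Lv.Z_ne h.ln l
    have h1 : τ * z * τ⁻¹ ∈ ZL (S : Subgroup G) n := hle ⟨z, hz, rfl⟩
    have h2 : τ * z * τ⁻¹ ∈ c := by
      rw [← h.τc]
      exact ⟨z, hZc hz, rfl⟩
    have h3 := W_inf_ZJ h.ln (h.cW ▸ h2) h1
    have h4 := SwapV.Lv.Z_eq h.ln h3 hz (fun e => hz1 (conj_eq_one_iff.1 e)) hz1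
    exact hz1 (h.τ1 z (hZc hz) h4)
  · refine h.RK.trans (sup_le ?_ (le_centralizer_iff.1 (h.ZK m hm)))
    intro b hb
    rw [mem_centralizer_iff]
    intro z hz
    exact (mem_centralizer_iff.1 hb.2 z (h.ln.fr.Z_le m hz))

end bk

/-- **Weak UNI.** -/
theorem exists_weak {ι : Type} [Finite ι] [Nonempty ι] {S : Sylow 2 G} {V Q : Subgroup G} {n : ℕ}
    {L W Z C A : ι → Subgroup G} (h : LnV S V Q n L W Z C A) (two : ∀ i : ι, ∃ j, j ≠ i)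
    {R : Subgroup G} (hP : IsMinPar (BL (S : Subgroup G) n) R) (hT : Syl (BL (S : Subgroup G) n) R)
    (hc : R ⊓ centralizer (o2 R : Set G) ≤ o2 R) (hn : ¬ lev (S : Subgroup G) n ≤ o2 R)
    (hZ : ¬ R ≤ centralizer (zc (BL (S : Subgroup G) n) : Set G)) :
    ∃ i, (∃ r ∈ R, cj r (Z i) ≤ W i ⊔ ZL (S : Subgroup G) n ∧ ¬ cj r (Z i) ≤ ZL (S : Subgroup G) n) ∧
      ∀ m, m ≠ i → R ≤ centralizer (Z m : Set G) := by
  obtain ⟨j, K, N₁, c, τ, l, hb, -⟩ := exists_blk h two hP hT hc hn hZ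
  obtain ⟨⟨r, hr, h1, h2⟩, h3⟩ := weak_of hb
  exact ⟨l, ⟨r, hr, (h1.trans inf_le_left).trans le_sup_left, h2⟩, h3⟩

end Cfsg.Agent.Omega.OM.LowV
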